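import Groth.Agent.L15.Tame.Main
import Mathlib.RingTheory.Localization.Finiteness
import Mathlib.RingTheory.Norm.Basic
import Mathlib.RingTheory.Ideal.AssociatedPrime.Finiteness

/-!
Compatibility of tame symbols with finite extensions and norms.
-/

set_option autoImplicit false
set_option maxSynthPendingDepth 5
universe u

noncomputable section

namespace Groth.L15.Tame

open IsLocalRing Groth.L15.CommonFactor CycAlg

variable {A : Type u} [CommRing A] [IsLocalRing A]

theorem ord_ringEquiv {L L' : Type u} [CommRing L] [CommRing L'] (e : L ≃+* L') (x : L) :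
    Ring.ord L' (e x) = Ring.ord L x := by
  let φ : L →+* L' ⧸ Ideal.span {e x} := (Ideal.Quotient.mk _).comp e.toRingHom
  letI : Algebra L (L' ⧸ Ideal.span {e x}) := φ.toAlgebra
  have hsurj : Function.Surjective φ := Ideal.Quotient.mk_surjective.comp e.surjective
  have hker : RingHom.ker φ = Ideal.span {x} := by
    ext z
    rw [RingHom.mem_ker, RingHom.comp_apply, Ideal.Quotient.eq_zero_iff_mem, Ideal.mem_span_singleton',
      Ideal.mem_span_singleton']
    constructor
    · rintro ⟨a, ha⟩
      exact ⟨e.symm a, e.injective (by rw [map_mul, e.apply_symm_apply]; exact ha)⟩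
    · rintro ⟨a, rfl⟩
      exact ⟨e a, (map_mul e a x).symm⟩
  have h1 : Module.length L (L ⧸ Ideal.span {x}) = Module.length L (L' ⧸ Ideal.span {e x}) := by
    rw [← hker]
    exact ((Ideal.quotientKerAlgEquivOfSurjective (f := Algebra.ofId L (L' ⧸ Ideal.span {e x})) hsurj).toLinearEquiv).length_eq
  have h2 : Module.length L (L' ⧸ Ideal.span {e x}) = Module.length (L' ⧸ Ideal.span {e x}) (L' ⧸ Ideal.span {e x}) :=
    Module.length_eq_of_surjective (R := L' ⧸ Ideal.span {e x}) (S := L) hsurj
  have h3 : Module.length L' (L' ⧸ Ideal.span {e x}) = Module.length (L' ⧸ Ideal.span {e x}) (L' ⧸ Ideal.span {e x}) :=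
    Module.length_eq_of_surjective (R := L' ⧸ Ideal.span {e x}) (S := L') Ideal.Quotient.mk_surjective
  rw [Ring.ord, Ring.ord, h1, h2, h3]

section Tower

variable {R : Type u} [CommRing R] [IsLocalRing R] [Algebra A R] [IsLocalHom (algebraMap A R)]
  {L : Type u} [CommRing L] [IsLocalRing L] [Algebra A L] [IsLocalHom (algebraMap A L)]
  [Algebra R L] [IsLocalHom (algebraMap R L)] [IsScalarTower A R L]

theorem norm_lf [Module.Finite (ResidueField A) (ResidueField L)] (π : L) (u₁ u₂ : Lˣ) (e₁ e₂ : ℕ) :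
    Algebra.norm (ResidueField A) (lf R π u₁ u₂ e₁ e₂) = lf A π u₁ u₂ e₁ e₂ := by
  haveI : IsScalarTower (ResidueField A) (ResidueField R) (ResidueField L) :=
    IsScalarTower.of_algebraMap_eq fun a => by
      obtain ⟨a, rfl⟩ := residue_surjective a
      change residue L (algebraMap A L a) = residue L (algebraMap R L (algebraMap A R a))
      rw [← IsScalarTower.algebraMap_apply A R L]
  simp only [lf, map_pow]
  rw [Algebra.norm_norm]

theorem lf_transport {L' : Type u} [CommRing L'] [IsLocalRing L'] [Algebra A L'] [IsLocalHom (algebraMap A L')]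
    [Algebra L L'] [IsLocalHom (algebraMap L L')] [IsScalarTower A L L']
    [Module.Finite (ResidueField A) (ResidueField L')]
    (hbij : Function.Bijective (algebraMap L L')) {π : L} (hπ : π ∈ nonZeroDivisors L)
    (u₁ u₂ : Lˣ) (e₁ e₂ : ℕ) :
    lf A (algebraMap L L' π) (Units.map (algebraMap L L').toMonoidHom u₁)
        (Units.map (algebraMap L L').toMonoidHom u₂) e₁ e₂ = lf A π u₁ u₂ e₁ e₂ := by
  let e : L ≃+* L' := RingEquiv.ofBijective (algebraMap L L') hbij
  have hρ : algebraMap L L' π ∈ nonZeroDivisors L' := by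
    rw [mem_nonZeroDivisors_iff_right]
    intro z hz
    obtain ⟨z, rfl⟩ := hbij.2 z
    rw [← map_mul, ← map_zero (algebraMap L L')] at hz
    rw [mem_nonZeroDivisors_iff_right.mp hπ z (hbij.1 hz), map_zero]
  have hord : Ring.ord L' (algebraMap L L' π) = Ring.ord L π := ord_ringEquiv e π
  have hres : Function.Bijective (algebraMap (ResidueField L) (ResidueField L')) := by
    refine ⟨(algebraMap (ResidueField L) (ResidueField L')).injective, fun z => ?_⟩
    obtain ⟨z, rfl⟩ := residue_surjective z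
    obtain ⟨z, rfl⟩ := hbij.2 z
    exact ⟨residue L z, rfl⟩
  have hrank : Module.finrank (ResidueField L) (ResidueField L') = 1 := by
    rw [← (AlgEquiv.ofBijective (Algebra.ofId (ResidueField L) (ResidueField L')) hres).toLinearEquiv.finrank_eq,
      Module.finrank_self]
  rw [lf_refine (L := L) hρ (π := π) (w := 1) (h := 1) (by simp) u₁ u₂ e₁ e₂ _ _ _ _ (by simp) (by simp),
    hrank, one_mul, one_mul, hord]
  rfl

end Tower

variable [IsNoetherianRing A] {B : Type u} [CommRing B] [Algebra A B]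

local notation "Loc" q => Localization.AtPrime (MaximalSpectrum.asIdeal q)

theorem exists_nzd_mem_max [Module.Finite A B] (hass : maximalIdeal A ∉ associatedPrimes A B) :
    ∃ z ∈ maximalIdeal A, ∀ c : B, z • c = 0 → c = 0 := by
  by_contra hcon
  push_neg at hcon
  have hfin := associatedPrimes.finite A B
  have hsub : (maximalIdeal A : Set A) ⊆ ⋃ p ∈ (↑hfin.toFinset : Set (Ideal A)), ((id p : Ideal A) : Set A) := by
    intro z hz
    obtain ⟨c, hc, hc0⟩ := hcon z hz
    have hmem : z ∈ ⋃ p ∈ associatedPrimes A B, (p : Set A) := by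
      rw [biUnion_associatedPrimes_eq_zero_divisors]
      exact ⟨c, hc0, hc⟩
    obtain ⟨p, hp, hzp⟩ := Set.mem_iUnion₂.mp hmem
    exact Set.mem_biUnion (hfin.mem_toFinset.mpr hp) hzp
  obtain ⟨p, hp, hle⟩ := (Ideal.subset_union_prime (f := id) ⊥ ⊥
    fun i hi _ _ => ((hfin.mem_toFinset).mp hi).isPrime).mp hsub
  have hp' := hfin.mem_toFinset.mp hp
  exact hass (((maximalIdeal.isMaximal A).eq_of_le hp'.isPrime.ne_top hle) ▸ hp')

section Fibres

variable {C : Type u} [CommRing C] [Algebra B C] [Module.Finite B C]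

/-- localization of a finite algebra at a maximal ideal of the base -/
abbrev Cq (C : Type u) [CommRing C] [Algebra B C] (q : MaximalSpectrum B) : Type u :=
  Localization (Algebra.algebraMapSubmonoid C q.asIdeal.primeCompl)

omit [Algebra A B] [IsNoetherianRing A] in
theorem finite_Cq (q : MaximalSpectrum B) : Module.Finite (Loc q) (Cq C q) :=
  Module.Finite.of_isLocalization B C q.asIdeal.primeCompl

omit [Algebra A B] [IsNoetherianRing A] in
theorem comap_resMax (q : MaximalSpectrum B) (Q' : MaximalSpectrum (Cq C q)) :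
    (Q'.asIdeal.comap (algebraMap C (Cq C q))).comap (algebraMap B C) = q.asIdeal := by
  haveI := finite_Cq (C := C) q
  haveI := Q'.isMaximal
  haveI : Algebra.IsIntegral (Loc q) (Cq C q) := Algebra.IsIntegral.of_finite _ _
  rw [Ideal.comap_comap, ← IsScalarTower.algebraMap_eq B C (Cq C q),
    IsScalarTower.algebraMap_eq B (Loc q) (Cq C q), ← Ideal.comap_comap,
    eq_maximalIdeal (Ideal.isMaximal_comap_of_isIntegral_of_isMaximal (R := Loc q) Q'.asIdeal)]
  exact Localization.AtPrime.comap_maximalIdeal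

/-- the maximal ideal of `C` under a point of the localization -/
def resMax (q : MaximalSpectrum B) (Q' : MaximalSpectrum (Cq C q)) : MaximalSpectrum C :=
  ⟨Q'.asIdeal.comap (algebraMap C (Cq C q)), by
    haveI := Q'.isMaximal.isPrime
    haveI : (Q'.asIdeal.comap (algebraMap C (Cq C q))).IsPrime := inferInstance
    haveI : Algebra.IsIntegral B C := Algebra.IsIntegral.of_finite B C
    refine Ideal.isMaximal_of_isIntegral_of_isMaximal_comap (R := B) _ ?_
    rw [comap_resMax]; exact q.isMaximal⟩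

omit [Algebra A B] [IsNoetherianRing A] in
theorem resMax_inj (q : MaximalSpectrum B) (Q Q' : MaximalSpectrum (Cq C q))
    (h : (resMax q Q).asIdeal = (resMax q Q').asIdeal) : Q = Q' := by
  refine MaximalSpectrum.ext ?_
  have e1 := IsLocalization.map_under (Algebra.algebraMapSubmonoid C q.asIdeal.primeCompl) (Cq C q) Q.asIdeal
  have e2 := IsLocalization.map_under (Algebra.algebraMapSubmonoid C q.asIdeal.primeCompl) (Cq C q) Q'.asIdeal
  exact e1.symm.trans ((congrArg (Ideal.map (algebraMap C (Cq C q))) h).trans e2)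

omit [Algebra A B] [IsNoetherianRing A] in
theorem resMax_bijective :
    Function.Bijective fun v : (q : MaximalSpectrum B) × MaximalSpectrum (Cq C q) => resMax v.1 v.2 := by
  haveI : Algebra.IsIntegral B C := Algebra.IsIntegral.of_finite B C
  constructor
  · rintro ⟨q, Q⟩ ⟨q', Q'⟩ h
    have h' : (resMax q Q).asIdeal = (resMax q' Q').asIdeal := congrArg MaximalSpectrum.asIdeal h
    have hq : q = q' := MaximalSpectrum.ext (by
      have e1 := comap_resMax q Q
      have e2 := comap_resMax q' Q'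
      change (resMax q Q).asIdeal.comap (algebraMap B C) = q.asIdeal at e1
      change (resMax q' Q').asIdeal.comap (algebraMap B C) = q'.asIdeal at e2
      rw [← e1, h', e2])
    subst hq
    have hQ : Q = Q' := resMax_inj q Q Q' h'
    subst hQ
    rfl
  · intro Q
    haveI := Q.isMaximal
    let q : MaximalSpectrum B :=
      ⟨Q.asIdeal.comap (algebraMap B C), Ideal.isMaximal_comap_of_isIntegral_of_isMaximal (R := B) Q.asIdeal⟩
    have hne : Q.asIdeal.map (algebraMap C (Cq C q)) ≠ ⊤ := by
      rw [IsLocalization.map_algebraMap_ne_top_iff_disjoint (Algebra.algebraMapSubmonoid C q.asIdeal.primeCompl) (Cq C q),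
        Set.disjoint_left]
      rintro _ ⟨t, ht, rfl⟩ h
      exact ht h
    obtain ⟨Q', hQ', hle⟩ := Ideal.exists_le_maximal _ hne
    refine ⟨⟨q, ⟨Q', hQ'⟩⟩, MaximalSpectrum.ext ?_⟩
    exact (Q.isMaximal.eq_of_le (resMax q ⟨Q', hQ'⟩).isMaximal.ne_top (Ideal.map_le_iff_le_comap.mp hle)).symm

omit [Algebra A B] [IsNoetherianRing A] [Module.Finite B C] in
theorem cq_injective (hφ : Function.Injective (algebraMap B C)) (q : MaximalSpectrum B) :
    Function.Injective (algebraMap (Loc q) (Cq C q)) := by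
  rw [injective_iff_map_eq_zero]
  intro y hy
  obtain ⟨c, s, rfl⟩ := IsLocalization.exists_mk'_eq q.asIdeal.primeCompl y
  have h1 : algebraMap C (Cq C q) (algebraMap B C c) = 0 := by
    rw [← IsScalarTower.algebraMap_apply B C (Cq C q), IsScalarTower.algebraMap_apply B (Loc q) (Cq C q),
      ← IsLocalization.mk'_spec (Loc q) c s, map_mul, hy, zero_mul]
  obtain ⟨⟨_, t, ht, rfl⟩, h2⟩ :=
    (IsLocalization.map_eq_zero_iff (Algebra.algebraMapSubmonoid C q.asIdeal.primeCompl) (Cq C q) _).mp h1
  rw [← map_mul, ← map_zero (algebraMap B C)] at h2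
  exact (IsLocalization.mk'_eq_zero_iff _ _).mpr ⟨⟨t, ht⟩, hφ h2⟩

variable [Algebra A C] [IsScalarTower A B C]

omit [IsNoetherianRing A] [Module.Finite B C] [IsLocalRing A] in
theorem tower_Cq (q : MaximalSpectrum B) : IsScalarTower A (Loc q) (Cq C q) :=
  IsScalarTower.of_algebraMap_eq fun x => by
    rw [IsScalarTower.algebraMap_apply A B (Loc q), ← IsScalarTower.algebraMap_apply B (Loc q) (Cq C q),
      IsScalarTower.algebraMap_apply B C (Cq C q), ← IsScalarTower.algebraMap_apply A B C,
      ← IsScalarTower.algebraMap_apply A C (Cq C q)]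

omit [IsNoetherianRing A] [Module.Finite B C] in
theorem tower_Cq_loc (q : MaximalSpectrum B) (Q' : MaximalSpectrum (Cq C q)) :
    IsScalarTower A (Loc q) (Loc Q') :=
  haveI := tower_Cq (A := A) (C := C) q
  IsScalarTower.of_algebraMap_eq fun x => by
    rw [IsScalarTower.algebraMap_apply A (Cq C q) (Loc Q'), IsScalarTower.algebraMap_apply (Loc q) (Cq C q) (Loc Q'),
      ← IsScalarTower.algebraMap_apply A (Loc q) (Cq C q)]

end Fibres

theorem finExt_Cq (hA : ringKrullDim A = 1) {C : Type u} [CommRing C] [Algebra A C] [Algebra B C]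
    [IsScalarTower A B C] [Module.Finite A B] [Module.Finite B C] [IsNoetherianRing B]
    (hφ : Function.Injective (algebraMap B C)) (q : MaximalSpectrum B) (hq1 : ringKrullDim (Loc q) = 1)
    [IsLocalHom (algebraMap A (Loc q))]
    {z : A} (hz : z ∈ maximalIdeal A) (hzB : algebraMap A B z ∈ nonZeroDivisors B)
    {nC : ℕ} (hnC : ∀ r ∈ maximalIdeal A ^ nC, ∀ c : C, r • c ∈ (algebraMap A C).range) :
    IsFinExt (Loc q) (Cq C q) (maximalIdeal (Loc q)) := by
  haveI := finite_Cq (C := C) q
  haveI := tower_Cq (A := A) (C := C) q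
  have hzL : algebraMap A (Loc q) z ∈ nonZeroDivisors (Loc q) := by
    rw [IsScalarTower.algebraMap_apply A B (Loc q)]; exact map_nzd q hzB
  refine ⟨cq_injective hφ q, inferInstance, ?_⟩
  have hmul : ∀ c : Cq C q, ∃ y, algebraMap (Loc q) (Cq C q) y = algebraMap A (Loc q) (z ^ nC) • c := by
    intro c
    obtain ⟨c, ⟨_, t, ht, rfl⟩, rfl⟩ :=
      IsLocalization.exists_mk'_eq (Algebra.algebraMapSubmonoid C q.asIdeal.primeCompl) c
    obtain ⟨y, hy⟩ := hnC _ (Ideal.pow_mem_pow hz nC) c
    refine ⟨IsLocalization.mk' (Loc q) (algebraMap A B y) (⟨t, ht⟩ : q.asIdeal.primeCompl), ?_⟩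
    refine (IsLocalization.map_units (Cq C q) (⟨_, Algebra.mem_algebraMapSubmonoid_of_mem ⟨t, ht⟩⟩ :
      Algebra.algebraMapSubmonoid C q.asIdeal.primeCompl)).mul_right_cancel ?_
    rw [smul_mul_assoc, IsLocalization.mk'_spec, Algebra.smul_def, ← IsScalarTower.algebraMap_apply B C (Cq C q),
      IsScalarTower.algebraMap_apply B (Loc q) (Cq C q) t, ← map_mul, IsLocalization.mk'_spec,
      ← IsScalarTower.algebraMap_apply B (Loc q) (Cq C q), IsScalarTower.algebraMap_apply B C (Cq C q),
      ← IsScalarTower.algebraMap_apply A B C, hy, Algebra.smul_def, map_mul,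
      ← IsScalarTower.algebraMap_apply A C (Cq C q), ← IsScalarTower.algebraMap_apply A (Loc q) (Cq C q)]
  by_cases hn0 : nC = 0
  · refine ⟨0, fun w _ c => ?_⟩
    obtain ⟨y, hy⟩ := hmul c
    refine ⟨w * y, ?_⟩
    rw [hn0, pow_zero, map_one, one_smul] at hy
    rw [map_mul, hy, Algebra.smul_def]
  have hzu : ¬ IsUnit (algebraMap A (Loc q) (z ^ nC)) := fun hu => by
    rw [map_pow, isUnit_pow_iff hn0] at hu
    exact hz (hu.of_map (algebraMap A (Loc q)) z)
  haveI : IsArtinianRing ((Loc q) ⧸ Ideal.span {algebraMap A (Loc q) (z ^ nC)}) :=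
    artinian_quot hq1.le (by rw [map_pow]; exact pow_mem hzL nC)
  haveI := (Ideal.Quotient.nontrivial_iff (I := Ideal.span {algebraMap A (Loc q) (z ^ nC)})).mpr
    (by rw [Ne, Ideal.span_singleton_eq_top]; exact hzu)
  obtain ⟨M, hM⟩ := exists_maximalIdeal_pow_le_of_isArtinianRing_quotient
    (Ideal.span {algebraMap A (Loc q) (z ^ nC)})
  refine ⟨M, fun w hw c => ?_⟩
  obtain ⟨v, rfl⟩ := Ideal.mem_span_singleton'.mp (hM hw)
  obtain ⟨y, hy⟩ := hmul c
  exact ⟨v * y, by rw [map_mul, hy, mul_smul, Algebra.smul_def v]⟩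

theorem norm_symbol_q (hA : ringKrullDim A = 1) {C : Type u} [CommRing C] [Algebra A C] [Algebra B C]
    [IsScalarTower A B C] [Module.Finite A B] [Module.Finite B C] [Module.Finite A C] [IsNoetherianRing B]
    (q : MaximalSpectrum B) [IsLocalHom (algebraMap A (Loc q))] (hq1 : ringKrullDim (Loc q) = 1)
    (hfinq : IsFinExt (Loc q) (Cq C q) (maximalIdeal (Loc q)))
    {a b : A} (hna : algebraMap A (Loc q) a ∈ nonZeroDivisors (Loc q))
    (hnb : algebraMap A (Loc q) b ∈ nonZeroDivisors (Loc q))
    (π : (Q : MaximalSpectrum C) → Loc Q) (hπ : ∀ Q, π Q ∈ nonZeroDivisors (Loc Q))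
    (u₁ u₂ : (Q : MaximalSpectrum C) → (Loc Q)ˣ) (e₁ e₂ : MaximalSpectrum C → ℕ)
    (h₁ : ∀ Q, algebraMap A (Loc Q) a = (u₁ Q : Loc Q) * π Q ^ e₁ Q)
    (h₂ : ∀ Q, algebraMap A (Loc Q) b = (u₂ Q : Loc Q) * π Q ^ e₂ Q) :
    Algebra.norm (ResidueField A) (tameSymbol (Loc q) (algebraMap A (Loc q) a) (algebraMap A (Loc q) b)) =
      ∏ᶠ Q' : MaximalSpectrum (Cq C q),
        haveI := isLocalHom_loc (A := A) (resMax q Q')
        lf A (π (resMax q Q')) (u₁ (resMax q Q')) (u₂ (resMax q Q')) (e₁ (resMax q Q')) (e₂ (resMax q Q')) := by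
  haveI := finite_Cq (C := C) q
  haveI := finite_res (A := A) q
  haveI := finite_spectrum (A := Loc q) (B := Cq C q)
  haveI := Fintype.ofFinite (MaximalSpectrum (Cq C q))
  haveI hlocQ : ∀ Q' : MaximalSpectrum (Cq C q), IsLocalHom (algebraMap (Loc q) (Loc Q')) :=
    fun Q' => isLocalHom_loc Q'
  haveI : ∀ Q' : MaximalSpectrum (Cq C q), IsLocalization.AtPrime (Loc Q') (resMax q Q').asIdeal := fun Q' =>
    IsLocalization.isLocalization_isLocalization_atPrime_isLocalization
      (Algebra.algebraMapSubmonoid C q.asIdeal.primeCompl) (S := Cq C q) (Loc Q') Q'.asIdeal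
  haveI := fun Q' => tower_Cq_loc (A := A) (C := C) q Q'
  let eQ : ∀ Q', (Loc (resMax q Q')) ≃ₐ[C] Loc Q' := fun Q' =>
    IsLocalization.algEquiv (resMax q Q').asIdeal.primeCompl _ _
  have hfac : ∀ Q' (w : A) (v : (Loc (resMax q Q'))ˣ) (k : ℕ),
      algebraMap A (Loc (resMax q Q')) w = (v : Loc (resMax q Q')) * π (resMax q Q') ^ k →
      algebraMap (Loc q) (Loc Q') (algebraMap A (Loc q) w) =
        ((Units.map (eQ Q').toRingEquiv.toRingHom.toMonoidHom v : (Loc Q')ˣ) : Loc Q') *
          (eQ Q') (π (resMax q Q')) ^ k := by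
    intro Q' w v k h
    rw [← IsScalarTower.algebraMap_apply A (Loc q) (Loc Q'), IsScalarTower.algebraMap_apply A C (Loc Q'),
      ← (eQ Q').commutes, ← IsScalarTower.algebraMap_apply A C, h, map_mul, map_pow]
    rfl
  have hπ' : ∀ Q', (eQ Q') (π (resMax q Q')) ∈ nonZeroDivisors (Loc Q') := fun Q' =>
    mem_nonZeroDivisors_iff_right.mpr fun w hw => (eQ Q').symm.injective (by
      rw [map_zero]
      refine mem_nonZeroDivisors_iff_right.mp (hπ (resMax q Q')) _ ?_
      have h := congrArg (eQ Q').symm hw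
      rwa [map_mul, AlgEquiv.symm_apply_apply, map_zero] at h)
  let D : TameData (Loc q) (algebraMap A (Loc q) a) (algebraMap A (Loc q) b) :=
    { B := Cq C q, isFinExt := hfinq, isLocalHom := hlocQ,
      π := fun Q' => (eQ Q') (π (resMax q Q')), π_mem := hπ',
      u₁ := fun Q' => Units.map (eQ Q').toRingEquiv.toRingHom.toMonoidHom (u₁ (resMax q Q')),
      u₂ := fun Q' => Units.map (eQ Q').toRingEquiv.toRingHom.toMonoidHom (u₂ (resMax q Q')),
      e₁ := fun Q' => e₁ (resMax q Q'), e₂ := fun Q' => e₂ (resMax q Q'),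
      fac₁ := fun Q' => hfac Q' a _ _ (h₁ (resMax q Q')),
      fac₂ := fun Q' => hfac Q' b _ _ (h₂ (resMax q Q')) }
  rw [tameSymbol_eq hq1 hna hnb D, TameData.value]
  change Algebra.norm (ResidueField A) (∏ᶠ Q' : MaximalSpectrum (Cq C q), D.localFactor Q') = _
  rw [finprod_eq_prod_of_fintype, finprod_eq_prod_of_fintype, map_prod]
  refine Finset.prod_congr rfl fun Q' _ => ?_
  haveI := isLocalHom_loc (A := A) (resMax q Q')
  letI : Algebra (Loc (resMax q Q')) (Loc Q') := (eQ Q').toRingEquiv.toRingHom.toAlgebra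
  haveI : IsLocalHom (algebraMap (Loc (resMax q Q')) (Loc Q')) :=
    ⟨fun w hw => by
      have h := hw.map (eQ Q').toRingEquiv.symm
      rw [RingHom.algebraMap_toAlgebra] at h
      simpa using h⟩
  haveI : IsLocalHom (algebraMap A (Loc Q')) := ⟨fun w hw => by
    rw [IsScalarTower.algebraMap_apply A (Loc q) (Loc Q')] at hw
    exact ((hw.of_map (algebraMap (Loc q) (Loc Q'))).of_map (algebraMap A (Loc q)))⟩
  haveI : IsScalarTower A (Loc (resMax q Q')) (Loc Q') := IsScalarTower.of_algebraMap_eq fun w => by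
    change _ = (eQ Q') (algebraMap A (Loc (resMax q Q')) w)
    rw [IsScalarTower.algebraMap_apply A C (Loc (resMax q Q')), (eQ Q').commutes,
      ← IsScalarTower.algebraMap_apply A C (Loc Q')]
  haveI := finite_res (A := Loc q) Q'
  haveI : IsScalarTower (ResidueField A) (ResidueField (Loc q)) (ResidueField (Loc Q')) :=
    IsScalarTower.of_algebraMap_eq fun w => by
      obtain ⟨w, rfl⟩ := residue_surjective w
      change residue _ (algebraMap A (Loc Q') w) = residue _ (algebraMap (Loc q) (Loc Q') (algebraMap A (Loc q) w))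
      rw [← IsScalarTower.algebraMap_apply A (Loc q) (Loc Q')]
  haveI : Module.Finite (ResidueField A) (ResidueField (Loc Q')) :=
    Module.Finite.trans (ResidueField (Loc q)) _
  rw [localFactor_eq]
  exact (norm_lf (A := A) (R := Loc q) _ _ _ _ _).trans
    (lf_transport (A := A) (L := Loc (resMax q Q')) (L' := Loc Q') (eQ Q').bijective (hπ (resMax q Q')) _ _ _ _)

theorem finprod_sigma_eq {M : Type u} [CommMonoid M] {α γ : Type u} {β : α → Type u} [Finite α]
    [∀ a, Finite (β a)] (f : (a : α) → β a → M) (g : γ → M) {r : (a : α) × β a → γ}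
    (hr : Function.Bijective r) (h : ∀ v : (a : α) × β a, f v.1 v.2 = g (r v)) :
    ∏ᶠ a, ∏ᶠ b, f a b = ∏ᶠ c, g c := by
  haveI := Fintype.ofFinite α
  haveI := fun a => Fintype.ofFinite (β a)
  haveI : Finite γ := Finite.of_surjective r hr.2
  haveI := Fintype.ofFinite γ
  simp only [finprod_eq_prod_of_fintype]
  rw [← Fintype.prod_sigma']
  exact Fintype.prod_bijective r hr _ _ h

/-- the symbol is the product of the norms of the symbols of the local rings of a finite extension -/
theorem symbol_eq_prod_norm (hA : ringKrullDim A = 1) (hB : IsFinExt A B (maximalIdeal A))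
    (hass : maximalIdeal A ∉ associatedPrimes A B)
    [hloc : ∀ q : MaximalSpectrum B, IsLocalHom (algebraMap A (Loc q))]
    (a b : A) (ha : a ∈ nonZeroDivisors A) (hb : b ∈ nonZeroDivisors A) :
    tameSymbol A a b = ∏ᶠ q : MaximalSpectrum B, Algebra.norm (ResidueField A)
      (tameSymbol (Loc q) (algebraMap A (Loc q) a) (algebraMap A (Loc q) b)) := by
  classical
  obtain ⟨hinj, hfin, n, hn⟩ := hB
  haveI := hfin
  haveI : IsNoetherianRing B := IsNoetherianRing.of_finite A B
  obtain ⟨z, hz, hzB⟩ := exists_nzd_mem_max (B := B) hass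
  have hzn : ∀ (k : ℕ) (c : B), z ^ k • c = 0 → c = 0 := by
    intro k
    induction k with
    | zero => intro c hc; simpa using hc
    | succ k ih => intro c hc; exact hzB c (ih (z • c) (by rw [smul_smul, ← pow_succ]; exact hc))
  have hnzdB : ∀ w ∈ nonZeroDivisors A, algebraMap A B w ∈ nonZeroDivisors B := fun w hw =>
    mem_nonZeroDivisors_iff_left.mpr fun c hc => hzn n c (by
      obtain ⟨y, hy⟩ := hn _ (Ideal.pow_mem_pow hz n) c
      have h1 : algebraMap A B (w * y) = 0 := by
        rw [map_mul, hy, mul_smul_comm, hc, smul_zero]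
      rw [← hy, mem_nonZeroDivisors_iff_left.mp hw y (hinj (by rw [h1, map_zero])), map_zero])
  have hzA : z ∈ nonZeroDivisors A := mem_nonZeroDivisors_iff_left.mpr fun c hc => hinj (by
    rw [map_zero]; exact hzB _ (by rw [Algebra.smul_def, ← map_mul, hc, map_zero]))
  let S : Finset B := {algebraMap A B a, algebraMap A B b}
  obtain ⟨C, _, _, φ, hφ, hφnzd, hC, T, hT, hrep, hsep⟩ := exists_separated A hA _ B ⟨hinj, hfin, n, hn⟩ S
    (fun x hx => by
      simp only [S, Finset.mem_insert, Finset.mem_singleton] at hx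
      rcases hx with rfl | rfl
      exacts [hnzdB a ha, hnzdB b hb]) le_rfl
  obtain ⟨hinjC, hfinC, nC, hnC⟩ := id hC
  haveI := hfinC
  letI : Algebra B C := φ.toRingHom.toAlgebra
  haveI : IsScalarTower A B C := IsScalarTower.of_algebraMap_eq fun x => (φ.commutes x).symm
  haveI : Module.Finite B C := Module.Finite.of_restrictScalars_finite A _ _
  haveI : Algebra.IsIntegral B C := Algebra.IsIntegral.of_finite B C
  haveI : IsNoetherianRing C := IsNoetherianRing.of_finite A C
  have hTa : algebraMap A C a ∈ Submonoid.closure ({z : C | IsUnit z} ∪ ↑T) := by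
    have h := hrep (algebraMap A B a) (by simp [S]); rwa [φ.commutes] at h
  have hTb : algebraMap A C b ∈ Submonoid.closure ({z : C | IsUnit z} ∪ ↑T) := by
    have h := hrep (algebraMap A B b) (by simp [S]); rwa [φ.commutes] at h
  choose π hπ hgen using fun Q => exists_param T hT hsep Q
  choose u₁ e₁ h₁ using fun Q => hgen Q _ hTa
  choose u₂ e₂ h₂ using fun Q => hgen Q _ hTb
  let E : TameData A a b :=
    { B := C, isFinExt := hC, isLocalHom := fun Q => isLocalHom_loc Q,
      π := π, π_mem := hπ, u₁ := u₁, u₂ := u₂, e₁ := e₁, e₂ := e₂,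
      fac₁ := fun Q => by rw [IsScalarTower.algebraMap_apply A C (Loc Q)]; exact h₁ Q,
      fac₂ := fun Q => by rw [IsScalarTower.algebraMap_apply A C (Loc Q)]; exact h₂ Q }
  rw [tameSymbol_eq hA ha hb E]
  have hzBn : algebraMap A B z ∈ nonZeroDivisors B := hnzdB z hzA
  have hterm : ∀ q : MaximalSpectrum B, Algebra.norm (ResidueField A)
      (tameSymbol (Loc q) (algebraMap A (Loc q) a) (algebraMap A (Loc q) b)) =
      ∏ᶠ Q' : MaximalSpectrum (Cq C q), E.localFactor (resMax q Q') := by
    intro q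
    have hq1 : ringKrullDim (Loc q) = 1 := by
      refine le_antisymm (Ring.krullDimLE_iff.mp (krullDimLE_loc (dim_le_one A hA hinj) q)) ?_
      rw [IsLocalization.AtPrime.ringKrullDim_eq_height q.asIdeal (Loc q)]
      have hzq : algebraMap A B z ∈ q.asIdeal := by
        rw [← Ideal.mem_comap, comap_eq q]; exact hz
      haveI := q.isMaximal.isPrime
      have h0 : q.asIdeal.height ≠ 0 := fun h0 => Set.disjoint_iff.mp
        (Ideal.disjoint_nonZeroDivisors_of_mem_minimalPrimes (Ideal.height_eq_zero_iff.mp h0))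
        ⟨hzq, hzBn⟩
      exact_mod_cast Order.one_le_iff_ne_zero.mpr h0
    have hna : algebraMap A (Loc q) a ∈ nonZeroDivisors (Loc q) := by
      rw [IsScalarTower.algebraMap_apply A B (Loc q)]; exact map_nzd q (hnzdB a ha)
    have hnb : algebraMap A (Loc q) b ∈ nonZeroDivisors (Loc q) := by
      rw [IsScalarTower.algebraMap_apply A B (Loc q)]; exact map_nzd q (hnzdB b hb)
    exact norm_symbol_q (C := C) hA q hq1 (finExt_Cq hA hφ q hq1 hz hzBn hnC) hna hnb π hπ u₁ u₂ e₁ e₂
      E.fac₁ E.fac₂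
  rw [finprod_congr hterm]
  haveI := finite_spectrum (A := A) (B := B)
  haveI : ∀ q : MaximalSpectrum B, Finite (MaximalSpectrum (Cq C q)) := fun q =>
    haveI := finite_Cq (C := C) q
    finite_spectrum (A := Loc q)
  exact (finprod_sigma_eq (fun q (Q' : MaximalSpectrum (Cq C q)) => E.localFactor (resMax q Q'))
    (fun Q => E.localFactor Q) (resMax_bijective (B := B) (C := C)) fun _ => rfl).symm

end Groth.L15.Tame
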