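import Groth.Agent.L15.Tame.Value
import Mathlib.Algebra.Algebra.Subalgebra.Pointwise

/-!
Independence of the tame symbol from the data, and common data for finitely many elements.
-/

set_option autoImplicit false
universe u

noncomputable section

namespace Groth.L15.Tame

open IsLocalRing Groth.L15.CommonFactor CycAlg

variable {A : Type u} [CommRing A] [IsLocalRing A]

local notation "Loc" q => Localization.AtPrime (MaximalSpectrum.asIdeal q)

section Sep

variable {C : Type u} [CommRing C] [Algebra A C]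

/-- every element of the monoid generated by units and a separated set is locally a power -/
theorem exists_param (T : Finset C) (hT : ∀ x ∈ T, x ∈ nonZeroDivisors C) (hsep : Separated T)
    (q : MaximalSpectrum C) :
    ∃ ρ : Loc q, ρ ∈ nonZeroDivisors (Loc q) ∧ ∀ z ∈ Submonoid.closure ({z : C | IsUnit z} ∪ ↑T),
      ∃ (v : (Loc q)ˣ) (e : ℕ), algebraMap C (Loc q) z = (v : Loc q) * ρ ^ e := by
  obtain ⟨π, hπ, hgen⟩ : ∃ π : Loc q, π ∈ nonZeroDivisors (Loc q) ∧
      ∀ x ∈ T, ∃ (v : (Loc q)ˣ) (e : ℕ), algebraMap C (Loc q) x = (v : Loc q) * π ^ e := by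
    by_cases h : ∃ x ∈ T, x ∈ q.asIdeal
    · obtain ⟨x0, hx0, hx0q⟩ := h
      refine ⟨algebraMap C (Loc q) x0, map_nzd q (hT x0 hx0), fun x hx => ?_⟩
      by_cases hxq : x ∈ q.asIdeal
      · exact ⟨1, 1, by rw [hsep _ q.isMaximal x hx x0 hx0 hxq hx0q]; simp⟩
      · exact ⟨(isUnit_loc_of_notMem q hxq).unit, 0, by simp⟩
    · push_neg at h
      exact ⟨1, one_mem _, fun x hx => ⟨(isUnit_loc_of_notMem q (h x hx)).unit, 0, by simp⟩⟩
  refine ⟨π, hπ, fun z hz => ?_⟩
  induction hz using Submonoid.closure_induction with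
  | mem z hz =>
    rcases hz with hz | hz
    · exact ⟨(IsUnit.map (algebraMap C (Loc q)) hz).unit, 0, by simp⟩
    · exact hgen z hz
  | one => exact ⟨1, 0, by simp⟩
  | mul z z' _ _ hz hz' =>
    obtain ⟨v, e, h⟩ := hz
    obtain ⟨v', e', h'⟩ := hz'
    exact ⟨v * v', e + e', by rw [map_mul, h, h', Units.val_mul, pow_add]; ring⟩

end Sep

/-- parameters at all maximal ideals for a finite family -/
structure Fam (A : Type u) [CommRing A] [IsLocalRing A] {ι : Type} (a : ι → A) where
  B : Type u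
  [commRing : CommRing B]
  [algebra : Algebra A B]
  isFinExt : IsFinExt A B (maximalIdeal A)
  π : (q : MaximalSpectrum B) → Loc q
  π_mem : ∀ q, π q ∈ nonZeroDivisors (Loc q)
  u : ι → (q : MaximalSpectrum B) → (Loc q)ˣ
  e : ι → MaximalSpectrum B → ℕ
  fac : ∀ i q, algebraMap A (Loc q) (a i) = (u i q : Loc q) * π q ^ e i q

attribute [instance] Fam.commRing Fam.algebra

/-- tame data of a pair in a family -/
def Fam.toData {ι : Type} {a : ι → A} (F : Fam A a) (i j : ι) : TameData A (a i) (a j) where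
  B := F.B
  isFinExt := F.isFinExt
  isLocalHom := fun q => haveI := F.isFinExt.2.1; isLocalHom_loc q
  π := F.π
  π_mem := F.π_mem
  u₁ := F.u i
  u₂ := F.u j
  e₁ := F.e i
  e₂ := F.e j
  fac₁ := F.fac i
  fac₂ := F.fac j

variable [IsNoetherianRing A]

/-- data exist for every finite family of nonzerodivisors -/
theorem exists_fam (hA : ringKrullDim A = 1) {ι : Type} [Fintype ι] (a : ι → A)
    (ha : ∀ i, a i ∈ nonZeroDivisors A) : Nonempty (Fam A a) := by
  classical
  have hid : IsFinExt A A (maximalIdeal A) :=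
    ⟨fun _ _ h => h, inferInstance, 0, fun r _ b => ⟨r * b, rfl⟩⟩
  obtain ⟨C, _, _, φ, -, -, hC, T, hT, hrep, hsep⟩ := exists_separated A hA
    (∑ x ∈ Finset.univ.image a, len A A x) A hid (Finset.univ.image a)
    (fun x hx => by obtain ⟨i, -, rfl⟩ := Finset.mem_image.mp hx; exact ha i) le_rfl
  choose π hπ hgen using fun q => exists_param T hT hsep q
  have h : ∀ i q, ∃ (v : (Localization.AtPrime (MaximalSpectrum.asIdeal (R := C) q))ˣ) (e : ℕ),
      algebraMap A _ (a i) = (v : Localization.AtPrime q.asIdeal) * π q ^ e := by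
    intro i q
    obtain ⟨v, e, hve⟩ := hgen q _ (hrep (a i) (Finset.mem_image_of_mem _ (Finset.mem_univ i)))
    refine ⟨v, e, ?_⟩
    rw [← hve, IsScalarTower.algebraMap_apply A C (Localization.AtPrime q.asIdeal)]
    exact congrArg _ (φ.commutes (a i)).symm
  choose u e hf using h
  exact ⟨{ B := C, isFinExt := hC, π := π, π_mem := hπ, u := u, e := e, fac := hf }⟩

theorem exists_embed {B K : Type u} [CommRing B] [Algebra A B] [CommRing K] [Algebra A K]
    {r : A} (hr : IsUnit (algebraMap A K r))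
    (hB : ∀ b : B, ∃ y : A, algebraMap A B y = r • b) (hinj : Function.Injective (algebraMap A B))
    (hinjK : Function.Injective (algebraMap A K))
    (hnzd : algebraMap A B r ∈ nonZeroDivisors B) :
    ∃ ι : B →ₐ[A] K, Function.Injective ι := by
  choose y hy using hB
  have hy' : ∀ b, algebraMap A B (y b) = algebraMap A B r * b := fun b => by rw [hy b, Algebra.smul_def]
  let g : B → K := fun b => algebraMap A K (y b) * (↑hr.unit⁻¹ : K)
  have key : ∀ b z, algebraMap A B z = algebraMap A B r * b → g b = algebraMap A K z * (↑hr.unit⁻¹ : K) := by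
    intro b z hz
    simp only [g]
    rw [hinj ((hy' b).trans hz.symm)]
  have hr' : algebraMap A K r * (↑hr.unit⁻¹ : K) = 1 := IsUnit.mul_val_inv hr
  refine ⟨{ toFun := g, map_one' := ?_, map_mul' := ?_, map_zero' := ?_, map_add' := ?_, commutes' := ?_ }, ?_⟩
  · rw [key 1 r (by rw [mul_one]), hr']
  · intro b c
    have h : algebraMap A B (y b * y c) = algebraMap A B r * (algebraMap A B r * (b * c)) := by
      rw [map_mul, hy', hy']; ring
    have h2 : y b * y c = r * y (b * c) := hinj (by rw [h, map_mul, hy' (b * c)])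
    change g (b * c) = g b * g c
    simp only [g]
    calc algebraMap A K (y (b * c)) * (↑hr.unit⁻¹ : K)
        = algebraMap A K (r * y (b * c)) * (↑hr.unit⁻¹ : K) * (↑hr.unit⁻¹ : K) := by
          rw [map_mul]; linear_combination (-(algebraMap A K (y (b * c)) * (↑hr.unit⁻¹ : K))) * hr'
      _ = _ := by rw [← h2, map_mul]; ring
  · rw [key 0 0 (by simp)]; simp
  · intro b c
    change g (b + c) = g b + g c
    rw [key (b + c) (y b + y c) (by rw [map_add, hy', hy']; ring), map_add, add_mul]
  · intro a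
    change g (algebraMap A B a) = _
    rw [key _ (r * a) (by rw [map_mul]), map_mul, mul_right_comm, hr', one_mul]
  · intro b c hbc
    change g b = g c at hbc
    have h1 : algebraMap A K (y b) = algebraMap A K (y c) :=
      hr.unit⁻¹.isUnit.mul_right_cancel hbc
    have h2 := congrArg (algebraMap A B) (hinjK h1)
    rw [hy', hy'] at h2
    exact (isRegular_iff_mem_nonZeroDivisors.mpr hnzd).left h2

/-- the value does not depend on the data -/
theorem value_eq (hA : ringKrullDim A = 1) {a₁ a₂ : A} (h₁ : a₁ ∈ nonZeroDivisors A)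
    (h₂ : a₂ ∈ nonZeroDivisors A) (D D' : TameData A a₁ a₂) : D.value = D'.value := by
  classical
  by_cases hu : IsUnit a₁ ∧ IsUnit a₂
  · rw [value_of_isUnit D hu.1 hu.2, value_of_isUnit D' hu.1 hu.2]
  set z := a₁ * a₂
  have hz : z ∈ nonZeroDivisors A := mul_mem h₁ h₂
  have hzm : z ∈ maximalIdeal A := by
    rw [mem_maximalIdeal, mem_nonunits_iff, IsUnit.mul_iff]; exact hu
  obtain ⟨hinj, hfin, n, hn⟩ := D.isFinExt
  obtain ⟨hinj', hfin', n', hn'⟩ := D'.isFinExt
  set r := z ^ (n + n')
  have hrn : r ∈ maximalIdeal A ^ n := Ideal.pow_le_pow_right (Nat.le_add_right n n') (Ideal.pow_mem_pow hzm _)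
  have hrn' : r ∈ maximalIdeal A ^ n' := Ideal.pow_le_pow_right (Nat.le_add_left n' n) (Ideal.pow_mem_pow hzm _)
  let K := FractionRing A
  have hrK : IsUnit (algebraMap A K r) := IsLocalization.map_units K (⟨r, pow_mem hz _⟩ : nonZeroDivisors A)
  have hinjK : Function.Injective (algebraMap A K) := IsFractionRing.injective A K
  have hrB : algebraMap A D.B r ∈ nonZeroDivisors D.B := by
    rw [map_pow, map_mul]; exact pow_mem (mul_mem (data_nzd₁ D) (data_nzd₂ D)) _
  have hrB' : algebraMap A D'.B r ∈ nonZeroDivisors D'.B := by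
    rw [map_pow, map_mul]; exact pow_mem (mul_mem (data_nzd₁ D') (data_nzd₂ D')) _
  obtain ⟨ι, hι⟩ := exists_embed (K := K) hrK (fun b => hn r hrn b) hinj hinjK hrB
  obtain ⟨ι', hι'⟩ := exists_embed (K := K) hrK (fun b => hn' r hrn' b) hinj' hinjK hrB'
  let C0 : Subalgebra A K := ι.range ⊔ ι'.range
  have hfg : C0.toSubmodule.FG := by
    have h1 : ι.range.toSubmodule.FG := by
      have : ι.range.toSubmodule = Submodule.map ι.toLinearMap ⊤ := by
        ext v; simp [Submodule.map_top]
      rw [this]; exact Submodule.FG.map _ Module.Finite.fg_top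
    have h2 : ι'.range.toSubmodule.FG := by
      have : ι'.range.toSubmodule = Submodule.map ι'.toLinearMap ⊤ := by
        ext v; simp [Submodule.map_top]
      rw [this]; exact Submodule.FG.map _ Module.Finite.fg_top
    rw [← Subalgebra.mul_toSubmodule]
    exact h1.mul h2
  have : Module.Finite A C0 := Module.Finite.iff_fg.mpr hfg
  have hC0mem : ∀ s ∈ maximalIdeal A ^ (n + n'), ∀ c : C0, s • c ∈ (algebraMap A C0).range := by
    intro s hs c
    suffices h : ∀ v : K, v ∈ C0 → ∃ y : A, algebraMap A K y = s • v by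
      obtain ⟨y, hy⟩ := h c c.2
      exact ⟨y, Subtype.ext hy⟩
    intro v hv
    have hv' : v ∈ C0.toSubmodule := hv
    rw [← Subalgebra.mul_toSubmodule] at hv'
    rw [pow_add] at hs
    induction hs using Submodule.mul_induction_on' with
    | mem_mul_mem p hp q hq =>
      induction hv' using Submodule.mul_induction_on' with
      | mem_mul_mem b hb c hc =>
        obtain ⟨b, rfl⟩ := hb
        obtain ⟨c, rfl⟩ := hc
        obtain ⟨yb, hyb⟩ := hn p hp b
        obtain ⟨yc, hyc⟩ := hn' q hq c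
        refine ⟨yb * yc, ?_⟩
        rw [map_mul, ← ι.commutes, ← ι'.commutes, hyb, hyc, map_smul, map_smul, smul_mul_smul_comm]
        rfl
      | add b hb c hc ihb ihc =>
        obtain ⟨y, hy⟩ := ihb (by have := hb; rwa [Subalgebra.mul_toSubmodule] at this)
        obtain ⟨y', hy'⟩ := ihc (by have := hc; rwa [Subalgebra.mul_toSubmodule] at this)
        exact ⟨y + y', by rw [map_add, hy, hy', smul_add]⟩
    | add p hp q hq ihp ihq =>
      obtain ⟨y, hy⟩ := ihp
      obtain ⟨y', hy'⟩ := ihq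
      exact ⟨y + y', by rw [map_add, hy, hy', add_smul]⟩
  have hC0 : IsFinExt A C0 (maximalIdeal A) :=
    ⟨fun p q h => hinjK (congrArg Subtype.val h), inferInstance, n + n', hC0mem⟩
  let j : D.B →ₐ[A] C0 := ι.codRestrict C0 fun b => (le_sup_left : ι.range ≤ C0) ⟨b, rfl⟩
  let j' : D'.B →ₐ[A] C0 := ι'.codRestrict C0 fun b => (le_sup_right : ι'.range ≤ C0) ⟨b, rfl⟩
  have hj : Function.Injective j := fun p q h => hι (congrArg Subtype.val h)
  have hj' : Function.Injective j' := fun p q h => hι' (congrArg Subtype.val h)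
  have hrK' : ∀ c : C0, r • c = 0 → c = 0 := fun c hc => by
    apply Subtype.ext
    have := congrArg Subtype.val hc
    simp only [SetLike.val_smul, Algebra.smul_def, ZeroMemClass.coe_zero] at this
    exact hrK.mul_right_eq_zero.mp this
  have hC0r : ∀ c : C0, ∃ y : A, algebraMap A C0 y = r • c := fun c => by
    exact hC0mem r (Ideal.pow_mem_pow hzm _) c
  have hjn : ∀ {B : Type u} [CommRing B] [Algebra A B] (k : B →ₐ[A] C0),
      Function.Injective (algebraMap A B) → Function.Injective k →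
      ∀ w ∈ nonZeroDivisors B, k w ∈ nonZeroDivisors C0 := by
    intro B _ _ k hB hk w hw
    rw [mem_nonZeroDivisors_iff_right]
    intro c hc
    obtain ⟨y, hy⟩ := hC0r c
    have h1 : algebraMap A B y * w = 0 := hk (by
      rw [map_mul, AlgHom.commutes, hy, smul_mul_assoc, hc, smul_zero, map_zero])
    have h2 : y = 0 := hB (by rw [mem_nonZeroDivisors_iff_right.mp hw _ h1, map_zero])
    exact hrK' c (by rw [← hy, h2, map_zero])
  have : IsNoetherianRing D.B := IsNoetherianRing.of_finite A D.B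
  have : IsNoetherianRing D'.B := IsNoetherianRing.of_finite A D'.B
  have hdim := dim_le_one A hA hinj
  have hdim' := dim_le_one A hA hinj'
  have := finite_spectrum (A := A) (B := D.B)
  have := finite_spectrum (A := A) (B := D'.B)
  have := Fintype.ofFinite (MaximalSpectrum D.B)
  have := Fintype.ofFinite (MaximalSpectrum D'.B)
  choose x hx hxne hxu using fun q => exists_global hdim q (D.π_mem q)
  choose x' hx' hxne' hxu' using fun q => exists_global hdim' q (D'.π_mem q)
  let S : Finset C0 := {j (algebraMap A D.B a₁), j (algebraMap A D.B a₂)} ∪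
    (Finset.univ.image fun q => j (x q)) ∪ (Finset.univ.image fun q => j' (x' q))
  have hS : ∀ v ∈ S, v ∈ nonZeroDivisors C0 := by
    intro v hv
    simp only [S, Finset.mem_union, Finset.mem_insert, Finset.mem_singleton, Finset.mem_image,
      Finset.mem_univ, true_and] at hv
    rcases hv with ((rfl | rfl) | ⟨q, rfl⟩) | ⟨q, rfl⟩
    · exact hjn j hinj hj _ (data_nzd₁ D)
    · exact hjn j hinj hj _ (data_nzd₂ D)
    · exact hjn j hinj hj _ (hx q)
    · exact hjn j' hinj' hj' _ (hx' q)
  obtain ⟨C, _, _, φ, hφ, hφnzd, hC, T, hT, hrep, hsep⟩ :=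
    exists_separated A hA _ C0 hC0 S hS le_rfl
  choose ρ hρ hgen using fun q => exists_param T hT hsep q
  have hfac : ∀ a : A, j (algebraMap A D.B a) ∈ S → ∀ Q : MaximalSpectrum C,
      ∃ (v : (Localization.AtPrime Q.asIdeal)ˣ) (e : ℕ),
        algebraMap A (Localization.AtPrime Q.asIdeal) a = (v : Localization.AtPrime Q.asIdeal) * ρ Q ^ e := by
    intro a ha Q
    obtain ⟨v, e, hve⟩ := hgen Q _ (hrep _ ha)
    refine ⟨v, e, ?_⟩
    rw [← hve, j.commutes, φ.commutes]
    exact IsScalarTower.algebraMap_apply A C _ a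
  choose v₁ f₁ hf₁ using hfac a₁ (by simp [S])
  choose v₂ f₂ hf₂ using hfac a₂ (by simp [S])
  let E : TameData A a₁ a₂ :=
    { B := C, isFinExt := hC, isLocalHom := fun q => haveI := hC.2.1; isLocalHom_loc q,
      π := ρ, π_mem := hρ, u₁ := v₁, u₂ := v₂, e₁ := f₁, e₂ := f₂, fac₁ := hf₁, fac₂ := hf₂ }
  obtain ⟨p, hp⟩ := hC.2.2
  have hwC : ∀ c : C, ∃ y : A, algebraMap A C y = algebraMap A C (z ^ p) * c := fun c => by
    obtain ⟨y, hy⟩ := hp _ (Ideal.pow_mem_pow hzm p) c
    exact ⟨y, by rw [hy, Algebra.smul_def]⟩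
  refine (value_eq_of_refine hA D E (φ.comp j) (hφ.comp hj) (fun w hw => hφnzd _ (hjn j hinj hj w hw))
    (w := algebraMap A D.B (z ^ p)) ?_ (fun c => ?_) x hx hxne hxu (fun q Q => hgen Q _ (hrep _ ?_))).trans
    (value_eq_of_refine hA D' E (φ.comp j') (hφ.comp hj') (fun w hw => hφnzd _ (hjn j' hinj' hj' w hw))
    (w := algebraMap A D'.B (z ^ p)) ?_ (fun c => ?_) x' hx' hxne' hxu' (fun q Q => hgen Q _ (hrep _ ?_))).symm
  · rw [map_pow, map_mul]; exact pow_mem (mul_mem (data_nzd₁ D) (data_nzd₂ D)) _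
  · obtain ⟨y, hy⟩ := hwC c
    exact ⟨algebraMap A D.B y, by rw [AlgHom.commutes, ← hy]; exact (φ.comp j).commutes y⟩
  · simp [S]
  · rw [map_pow, map_mul]; exact pow_mem (mul_mem (data_nzd₁ D') (data_nzd₂ D')) _
  · obtain ⟨y, hy⟩ := hwC c
    exact ⟨algebraMap A D'.B y, by rw [AlgHom.commutes, ← hy]; exact (φ.comp j').commutes y⟩
  · simp [S]

theorem tameSymbol_eq (hA : ringKrullDim A = 1) {a₁ a₂ : A} (h₁ : a₁ ∈ nonZeroDivisors A)
    (h₂ : a₂ ∈ nonZeroDivisors A) (D : TameData A a₁ a₂) : tameSymbol A a₁ a₂ = D.value := by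
  have h : Nonempty (TameData A a₁ a₂) := ⟨D⟩
  rw [tameSymbol, dif_pos h]
  exact value_eq hA h₁ h₂ _ _

theorem tameSymbol_fam (hA : ringKrullDim A = 1) {ι : Type} {a : ι → A} (F : Fam A a)
    (ha : ∀ i, a i ∈ nonZeroDivisors A) (i j : ι) :
    tameSymbol A (a i) (a j) = ∏ᶠ q : MaximalSpectrum F.B, (F.toData i j).localFactor q :=
  tameSymbol_eq hA (ha i) (ha j) (F.toData i j)

end Groth.L15.Tame
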