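import Groth.Agent.L15.Tame.OrdSum
import Mathlib.RingTheory.Norm.Transitivity

/-!
The local factor of a tame symbol as a function of (parameter, units, exponents), and its
behaviour under a finer parameter.
-/

set_option autoImplicit false
universe u

noncomputable section

namespace Groth.L15.Tame

open IsLocalRing

variable {A : Type u} [CommRing A] [IsLocalRing A]
variable {L : Type u} [CommRing L] [IsLocalRing L] [Algebra A L] [IsLocalHom (algebraMap A L)]

/-- `(-1)^(e₁e₂) ū₁^e₂ ū₂^(-e₁)` -/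
def sx (u₁ u₂ : Lˣ) (e₁ e₂ : ℕ) : ResidueField L :=
  (-1) ^ (e₁ * e₂) * residue L (u₁ : L) ^ e₂ * (residue L (u₂ : L) ^ e₁)⁻¹

variable (A) in
/-- local factor -/
def lf (π : L) (u₁ u₂ : Lˣ) (e₁ e₂ : ℕ) : ResidueField A :=
  Algebra.norm (ResidueField A) (sx u₁ u₂ e₁ e₂) ^ (Ring.ord L π).toNat

omit [Algebra A L] [IsLocalHom (algebraMap A L)] in
theorem residue_unit_ne_zero (u : Lˣ) : residue L (u : L) ≠ 0 := (residue_ne_zero_iff_isUnit _).mpr u.isUnit

omit [Algebra A L] [IsLocalHom (algebraMap A L)] in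
theorem sx_ne_zero (u₁ u₂ : Lˣ) (e₁ e₂ : ℕ) : sx u₁ u₂ e₁ e₂ ≠ 0 := by
  have := residue_unit_ne_zero u₁
  have := residue_unit_ne_zero u₂
  simp [sx, *]

omit [Algebra A L] [IsLocalHom (algebraMap A L)] in
theorem sx_zero (u₁ u₂ : Lˣ) : sx u₁ u₂ 0 0 = 1 := by simp [sx]

omit [Algebra A L] [IsLocalHom (algebraMap A L)] in
theorem sx_mul_left (u u' v : Lˣ) (e e' f : ℕ) :
    sx (u * u') v (e + e') f = sx u v e f * sx u' v e' f := by
  simp only [sx, Units.val_mul, map_mul, mul_pow, pow_add, add_mul, mul_inv]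
  ring

omit [Algebra A L] [IsLocalHom (algebraMap A L)] in
theorem sx_mul_right (u u' v : Lˣ) (e e' f : ℕ) :
    sx v (u * u') f (e + e') = sx v u f e * sx v u' f e' := by
  simp only [sx, Units.val_mul, map_mul, mul_pow, pow_add, mul_add, mul_inv]
  ring

theorem lf_mul_left (π : L) (u u' v : Lˣ) (e e' f : ℕ) :
    lf A π (u * u') v (e + e') f = lf A π u v e f * lf A π u' v e' f := by
  simp only [lf, sx_mul_left, map_mul, mul_pow]

theorem lf_mul_right (π : L) (u u' v : Lˣ) (e e' f : ℕ) :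
    lf A π v (u * u') f (e + e') = lf A π v u f e * lf A π v u' f e' := by
  simp only [lf, sx_mul_right, map_mul, mul_pow]

theorem lf_ne_zero [Module.Finite (ResidueField A) (ResidueField L)] (π : L) (u₁ u₂ : Lˣ) (e₁ e₂ : ℕ) :
    lf A π u₁ u₂ e₁ e₂ ≠ 0 :=
  pow_ne_zero _ (Algebra.norm_ne_zero_iff.mpr (sx_ne_zero _ _ _ _))

omit [Algebra A L] [IsLocalHom (algebraMap A L)] in
theorem ord_unit {π : L} (h : IsUnit π) : Ring.ord L π = 0 := by
  obtain ⟨u, rfl⟩ := h
  simp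

theorem lf_of_isUnit {π : L} (h : IsUnit π) (u₁ u₂ : Lˣ) (e₁ e₂ : ℕ) : lf A π u₁ u₂ e₁ e₂ = 1 := by
  rw [lf, ord_unit h]; simp

omit [Algebra A L] [IsLocalHom (algebraMap A L)] in
/-- exponents and units are determined by a nonunit nonzerodivisor -/
theorem eq_of_unit_mul_pow {π : L} (hπ : π ∈ nonZeroDivisors L) (hnu : ¬ IsUnit π) {u v : Lˣ} {e f : ℕ}
    (h : (u : L) * π ^ e = (v : L) * π ^ f) : e = f ∧ u = v := by
  have key : ∀ {u v : Lˣ} {e f : ℕ}, e ≤ f → (u : L) * π ^ e = (v : L) * π ^ f → e = f ∧ u = v := by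
    intro u v e f hef h
    obtain ⟨d, rfl⟩ := Nat.exists_eq_add_of_le hef
    have h' : ((u : L) - (v : L) * π ^ d) * π ^ e = 0 := by
      rw [sub_mul, h, pow_add]; ring
    have h'' := sub_eq_zero.mp (mem_nonZeroDivisors_iff_right.mp (pow_mem hπ e) _ h')
    rcases d with _ | d
    · exact ⟨rfl, Units.ext (by simpa using h'')⟩
    · exfalso
      refine hnu (isUnit_of_mul_isUnit_right (x := (v : L) * π ^ d) ?_)
      rw [mul_assoc, ← pow_succ, ← h'']
      exact u.isUnit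
  rcases le_total e f with hef | hef
  · exact key hef h
  · obtain ⟨h1, h2⟩ := key hef h.symm
    exact ⟨h1.symm, h2.symm⟩

section Tower

variable {L' : Type u} [CommRing L'] [IsLocalRing L'] [Algebra A L'] [IsLocalHom (algebraMap A L')]
  [Algebra L L'] [IsLocalHom (algebraMap L L')] [IsScalarTower A L L']

theorem norm_map_residue [Module.Finite (ResidueField A) (ResidueField L')] (x : ResidueField L) :
    Algebra.norm (ResidueField A) (algebraMap (ResidueField L) (ResidueField L') x) =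
      Algebra.norm (ResidueField A) x ^ Module.finrank (ResidueField L) (ResidueField L') := by
  have : IsScalarTower (ResidueField A) (ResidueField L) (ResidueField L') :=
    IsScalarTower.of_algebraMap_eq fun a => by
      obtain ⟨a, rfl⟩ := residue_surjective a
      change residue L' (algebraMap A L' a) = residue L' (algebraMap L L' (algebraMap A L a))
      rw [← IsScalarTower.algebraMap_apply A L L']
  rw [← Algebra.norm_norm (S := ResidueField L), Algebra.norm_algebraMap, map_pow]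

omit [Algebra A L] [IsLocalHom (algebraMap A L)] [Algebra A L'] [IsLocalHom (algebraMap A L')]
  [IsScalarTower A L L'] in
theorem sx_refine {ρ : L'} (hρ : ρ ∈ nonZeroDivisors L') (hnu : ¬ IsUnit ρ) {π : L} {w : L'ˣ} {h : ℕ}
    (hπ : algebraMap L L' π = (w : L') * ρ ^ h) (u₁ u₂ : Lˣ) (e₁ e₂ : ℕ) (v₁ v₂ : L'ˣ) (f₁ f₂ : ℕ)
    (h₁ : algebraMap L L' ((u₁ : L) * π ^ e₁) = (v₁ : L') * ρ ^ f₁)
    (h₂ : algebraMap L L' ((u₂ : L) * π ^ e₂) = (v₂ : L') * ρ ^ f₂) :
    sx v₁ v₂ f₁ f₂ = algebraMap (ResidueField L) (ResidueField L') (sx u₁ u₂ e₁ e₂) ^ h := by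
  have key : ∀ (u : Lˣ) (e : ℕ) (v : L'ˣ) (f : ℕ),
      algebraMap L L' ((u : L) * π ^ e) = (v : L') * ρ ^ f →
      f = h * e ∧ residue L' (v : L') =
        algebraMap (ResidueField L) (ResidueField L') (residue L (u : L)) * residue L' (w : L') ^ e := by
    intro u e v f hh
    rw [map_mul, map_pow, hπ, mul_pow, ← mul_assoc, ← pow_mul] at hh
    have := eq_of_unit_mul_pow hρ hnu (u := Units.map (algebraMap L L').toMonoidHom u * w ^ e) (v := v)
      (e := h * e) (f := f) (by simpa using hh)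
    refine ⟨this.1.symm, ?_⟩
    rw [← this.2]
    simp only [Units.val_mul, Units.val_pow_eq_pow_val, map_mul, map_pow]
    rfl
  obtain ⟨rfl, hv₁⟩ := key u₁ e₁ v₁ f₁ h₁
  obtain ⟨rfl, hv₂⟩ := key u₂ e₂ v₂ f₂ h₂
  have hw : residue L' (w : L') ≠ 0 := residue_unit_ne_zero w
  have hu₂ : algebraMap (ResidueField L) (ResidueField L') (residue L (u₂ : L)) ≠ 0 := by
    rw [map_ne_zero]; exact residue_unit_ne_zero u₂
  have hsign : ((-1 : ResidueField L')) ^ (h * e₁ * (h * e₂)) = ((-1) ^ (e₁ * e₂)) ^ h := by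
    rw [← pow_mul]
    apply neg_one_pow_congr
    simp only [Nat.even_mul]
    tauto
  simp only [sx, hv₁, hv₂, hsign, map_mul, map_inv₀, map_pow, map_neg, map_one, mul_pow, ← pow_mul,
    inv_pow, mul_inv]
  field_simp
  ring

theorem lf_refine [Module.Finite (ResidueField A) (ResidueField L')] {ρ : L'} (hρ : ρ ∈ nonZeroDivisors L')
    {π : L} {w : L'ˣ} {h : ℕ}
    (hπ : algebraMap L L' π = (w : L') * ρ ^ h) (u₁ u₂ : Lˣ) (e₁ e₂ : ℕ) (v₁ v₂ : L'ˣ) (f₁ f₂ : ℕ)
    (h₁ : algebraMap L L' ((u₁ : L) * π ^ e₁) = (v₁ : L') * ρ ^ f₁)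
    (h₂ : algebraMap L L' ((u₂ : L) * π ^ e₂) = (v₂ : L') * ρ ^ f₂) :
    lf A ρ v₁ v₂ f₁ f₂ = Algebra.norm (ResidueField A) (sx u₁ u₂ e₁ e₂) ^
      (Module.finrank (ResidueField L) (ResidueField L') * (h * (Ring.ord L' ρ).toNat)) := by
  by_cases hnu : IsUnit ρ
  · rw [lf_of_isUnit hnu, ord_unit hnu]; simp
  rw [lf, sx_refine hρ hnu hπ u₁ u₂ e₁ e₂ v₁ v₂ f₁ f₂ h₁ h₂, map_pow, norm_map_residue, ← pow_mul, ← pow_mul]

end Tower

end Groth.L15.Tame
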