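import Groth.Agent.L03.LengthSum
import Groth.Agent.L15.CommonFactor
import Groth.Prelude.Def_Tame
import Mathlib.RingTheory.OrderOfVanishing.Basic
import Mathlib.RingTheory.Localization.AtPrime.Basic

/-!
Lengths of `B ⧸ xB` as sums of local orders, and basic facts on finite extensions of one-dimensional
local rings used for tame symbols.
-/

set_option autoImplicit false
universe u

noncomputable section

namespace Groth.L15.Tame

open IsLocalRing

section General

variable {B : Type u} [CommRing B]

/-- localisation of `B ⧸ I` -/
theorem length_localized_quot (q : MaximalSpectrum B) (I : Ideal B) :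
    Groth.L03.LengthSum.lloc q (B ⧸ I) =
      Module.length (Localization.AtPrime q.asIdeal)
        (Localization.AtPrime q.asIdeal ⧸ I.map (algebraMap B (Localization.AtPrime q.asIdeal))) := by
  let S := q.asIdeal.primeCompl
  let L := Localization.AtPrime q.asIdeal
  let e₀ : LocalizedModule S (B ⧸ I) := LocalizedModule.mk (Ideal.Quotient.mk _ 1) 1
  let p : L →ₗ[L] LocalizedModule S (B ⧸ I) := LinearMap.toSpanSingleton L _ e₀
  have hp0 : ∀ (b : B) (s : S), p (Localization.mk b s) = LocalizedModule.mk (Ideal.Quotient.mk I b) s := by
    intro b s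
    change Localization.mk b s • e₀ = _
    rw [LocalizedModule.mk_smul_mk, mul_one]
    congr 1
    change Ideal.Quotient.mk I (b * 1) = _
    rw [mul_one]
  have hp : Function.Surjective p := by
    intro y
    induction y using LocalizedModule.induction_on with
    | _ z s =>
      obtain ⟨b, rfl⟩ := Ideal.Quotient.mk_surjective z
      exact ⟨Localization.mk b s, hp0 b s⟩
  have hker : LinearMap.ker p = I.map (algebraMap B L) := by
    ext z
    induction z using Localization.induction_on with
    | H bs =>
      obtain ⟨b, s⟩ := bs
      rw [LinearMap.mem_ker, hp0, ← LocalizedModule.zero_mk s, LocalizedModule.mk_eq,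
        Localization.mk_eq_mk', IsLocalization.mk'_mem_map_algebraMap_iff]
      constructor
      · rintro ⟨t, ht⟩
        refine ⟨(t : B) * s, mul_mem t.2 s.2, ?_⟩
        simp only [smul_zero, Submonoid.smul_def, smul_smul] at ht
        rw [← Ideal.Quotient.eq_zero_iff_mem, ← ht]
        rfl
      · rintro ⟨t, ht, htb⟩
        refine ⟨⟨t, ht⟩, ?_⟩
        simp only [smul_zero, Submonoid.smul_def, smul_smul]
        have : (t * (s : B)) • Ideal.Quotient.mk I b = Ideal.Quotient.mk I ((t * s) * b) := rfl
        rw [this, Ideal.Quotient.eq_zero_iff_mem]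
        simpa [mul_comm t, mul_assoc] using I.mul_mem_left (s : B) htb
  exact ((p.quotKerEquivOfSurjective hp).symm.trans (Submodule.quotEquivOfEq _ _ hker)).length_eq

/-- `length_R (B ⧸ xB)` is the sum of residual degrees times local orders -/
theorem length_quot_eq_finsum (R : Type u) [CommRing R] [Algebra R B] [IsNoetherianRing B]
    (hB : ringKrullDim B ≤ 1) {x : B} (hx : x ∈ nonZeroDivisors B) :
    Module.length R (B ⧸ Ideal.span {x}) = ∑ᶠ q : MaximalSpectrum B,
      Module.length R (B ⧸ q.asIdeal) *
        Ring.ord (Localization.AtPrime q.asIdeal) (algebraMap B (Localization.AtPrime q.asIdeal) x) := by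
  have hfin : IsFiniteLength B (B ⧸ Ideal.span {x}) :=
    Module.length_ne_top_iff.mp (Groth.L15.CommonFactor.length_quot_ne_top hB hx)
  rw [(Groth.L03.LengthSum.length_eq_finsum R hfin).2]
  refine finsum_congr fun q => ?_
  rw [length_localized_quot, Ideal.map_span, Set.image_singleton]
  rfl

end General

section Ext

variable {A B : Type u} [CommRing A] [CommRing B] [Algebra A B] [IsLocalRing A]

theorem comap_eq [Module.Finite A B] (q : MaximalSpectrum B) :
    q.asIdeal.comap (algebraMap A B) = maximalIdeal A := by
  have := q.isMaximal
  exact eq_maximalIdeal (Ideal.isMaximal_comap_of_isIntegral_of_isMaximal q.asIdeal)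

theorem isLocalHom_loc [Module.Finite A B] (q : MaximalSpectrum B) :
    IsLocalHom (algebraMap A (Localization.AtPrime q.asIdeal)) := by
  refine ⟨fun a ha => by_contra fun hn => ?_⟩
  have : algebraMap A B a ∈ q.asIdeal := by
    have h := comap_eq (A := A) q
    rw [← Ideal.mem_comap, h]; exact hn
  rw [IsScalarTower.algebraMap_apply A B (Localization.AtPrime q.asIdeal)] at ha
  exact ((IsLocalization.AtPrime.to_map_mem_maximal_iff (Localization.AtPrime q.asIdeal)
    q.asIdeal _).mpr this) ha

theorem residue_surjective' (q : MaximalSpectrum B) :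
    Function.Surjective (algebraMap B (ResidueField (Localization.AtPrime q.asIdeal))) := by
  intro z
  obtain ⟨z, rfl⟩ := residue_surjective z
  obtain ⟨b, s, rfl⟩ := IsLocalization.exists_mk'_eq q.asIdeal.primeCompl z
  obtain ⟨t, w, hw, hts⟩ := q.isMaximal.exists_inv (mt id s.2)
  refine ⟨b * t, ?_⟩
  let L := Localization.AtPrime q.asIdeal
  let r : B →+* ResidueField L := (residue L).comp (algebraMap B L)
  change r (b * t) = _
  have h1 : residue L (IsLocalization.mk' L b s) * r s = r b := by
    rw [RingHom.comp_apply, ← map_mul, IsLocalization.mk'_spec]; rfl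
  have h2 : r t * r s = 1 := by
    have h3 : r w = 0 := (residue_eq_zero_iff _).mpr
      ((IsLocalization.AtPrime.to_map_mem_maximal_iff L q.asIdeal _).mpr hw)
    have := congrArg r hts
    rwa [map_add, map_mul, map_one, h3, add_zero] at this
  calc r (b * t) = residue L (IsLocalization.mk' L b s) * (r t * r s) := by
        rw [map_mul, ← h1]; ring
    _ = _ := by rw [h2, mul_one]

instance finite_residueField [Module.Finite A B] (q : MaximalSpectrum B) :
    Module.Finite A (ResidueField (Localization.AtPrime q.asIdeal)) :=
  Module.Finite.of_surjective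
    ((IsScalarTower.toAlgHom A B (ResidueField (Localization.AtPrime q.asIdeal))).toLinearMap)
    (residue_surjective' q)

/-- residual degree -/
theorem length_quot_maximal [Module.Finite A B] (q : MaximalSpectrum B)
    [IsLocalHom (algebraMap A (Localization.AtPrime q.asIdeal))] :
    Module.length A (B ⧸ q.asIdeal) =
      (Module.finrank (ResidueField A) (ResidueField (Localization.AtPrime q.asIdeal)) : ℕ∞) := by
  have := q.isMaximal
  let L := Localization.AtPrime q.asIdeal
  let φ : B →ₗ[A] ResidueField L := (IsScalarTower.toAlgHom A B (ResidueField L)).toLinearMap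
  have hker : LinearMap.ker φ = q.asIdeal.restrictScalars A := by
    ext b
    change residue L (algebraMap B L b) = 0 ↔ _
    rw [residue_eq_zero_iff, IsLocalization.AtPrime.to_map_mem_maximal_iff L q.asIdeal]
    rfl
  have hsurj : Function.Surjective φ := residue_surjective' q
  have e := ((Submodule.Quotient.restrictScalarsEquiv A q.asIdeal).symm.trans
    ((Submodule.quotEquivOfEq _ _ hker.symm).trans (φ.quotKerEquivOfSurjective hsurj))).length_eq
  rw [e]
  have hfin : Module.Finite (ResidueField A) (ResidueField L) :=
    Module.Finite.of_restrictScalars_finite A _ _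
  rw [Module.length_eq_of_surjective (R := ResidueField A) (S := A) residue_surjective,
    Module.length_eq_finrank]

end Ext

end Groth.L15.Tame
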