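import Groth.Agent.L15.CommonFactor

/-!
Finite birational extensions in which finitely many nonzerodivisors become, at every maximal ideal,
powers of one element up to units.
-/

set_option autoImplicit false
universe u

noncomputable section

namespace Groth.L15.Tame

open Groth.L15.CommonFactor

/-- at most one member of `T` at each maximal ideal -/
def Separated {C : Type u} [CommRing C] (T : Finset C) : Prop :=
  ∀ q : Ideal C, q.IsMaximal → ∀ x ∈ T, ∀ y ∈ T, x ∈ q → y ∈ q → x = y

theorem exists_separated (A : Type u) [CommRing A] [IsNoetherianRing A] [IsLocalRing A]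
    (hA : ringKrullDim A = 1) :
    ∀ (N : ℕ) (B : Type u) [CommRing B] [Algebra A B],
      CycAlg.IsFinExt A B (IsLocalRing.maximalIdeal A) → ∀ (S : Finset B),
      (∀ x ∈ S, x ∈ nonZeroDivisors B) →
      ∑ x ∈ S, len A B x ≤ N →
      ∃ (C : Type u) (_ : CommRing C) (_ : Algebra A C) (φ : B →ₐ[A] C),
        Function.Injective φ ∧ (∀ z ∈ nonZeroDivisors B, φ z ∈ nonZeroDivisors C) ∧
        CycAlg.IsFinExt A C (IsLocalRing.maximalIdeal A) ∧ ∃ T : Finset C,
          (∀ x ∈ T, x ∈ nonZeroDivisors C) ∧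
          (∀ x ∈ S, φ x ∈ Submonoid.closure ({z : C | IsUnit z} ∪ ↑T)) ∧ Separated T := by
  classical
  intro N
  induction N using Nat.strong_induction_on with
  | _ N ih =>
  intro B _ _ hB S hS hsum
  by_cases hdone : Separated S
  · exact ⟨B, inferInstance, inferInstance, AlgHom.id A B, fun _ _ h => h, fun _ h => h, hB, S, hS,
      fun x hx => Submonoid.subset_closure (Or.inr hx), hdone⟩
  simp only [Separated] at hdone
  push_neg at hdone
  obtain ⟨q, hq, x, hx, y, hy, hxq, hyq, hxy⟩ := hdone
  obtain ⟨hinj, hfin, n, hn⟩ := hB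
  have : IsNoetherianRing B := IsNoetherianRing.of_finite A B
  obtain ⟨C, _, _, _, _, hfinC, hBC, hnzd, ⟨w, hw, hwC⟩, t, a', b', ht, ha', hb', hta, htb, hone⟩ :=
    exists_split A hA hinj x y (hS x hx) (hS y hy)
  have : Module.Finite A C := Module.Finite.trans B C
  have : IsNoetherianRing C := IsNoetherianRing.of_finite A C
  have hinjC : Function.Injective (algebraMap A C) := by
    rw [IsScalarTower.algebraMap_eq A B C]; exact hBC.comp hinj
  have : Algebra.IsIntegral B C := Algebra.IsIntegral.of_finite B C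
  have hqprime := hq.isPrime
  obtain ⟨Q, -, hQ, hQc⟩ := Ideal.exists_ideal_over_prime_of_isIntegral q (⊥ : Ideal C) (by
    rw [← RingHom.ker_eq_comap_bot, (RingHom.injective_iff_ker_eq_bot _).mp hBC]; exact bot_le)
  have htQ : t ∈ Q := by
    by_contra htQ
    have h1 : a' ∈ Q := (hQ.mem_or_mem (by rw [← hta, ← Ideal.mem_comap, hQc]; exact hxq : t * a' ∈ Q)).resolve_left htQ
    have h2 : b' ∈ Q := (hQ.mem_or_mem (by rw [← htb, ← Ideal.mem_comap, hQc]; exact hyq : t * b' ∈ Q)).resolve_left htQ
    exact hQ.ne_top (eq_top_iff.mpr (hone ▸ Ideal.span_le.mpr (by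
      intro z hz; rcases hz with rfl | rfl <;> assumption)))
  have htpos := len_pos A hA hinjC ht Q htQ
  have hlen : ∀ z ∈ nonZeroDivisors B, len A C (algebraMap B C z) = len A B z := fun z hz =>
    len_map A hA hinjC hBC hnzd hw hwC hz
  set R := (S.erase x).erase y
  let S' : Finset C := R.image (algebraMap B C) ∪ {t, a', b'}
  have hSsum : ∑ z ∈ S, len A B z = len A B x + (len A B y + ∑ z ∈ R, len A B z) := by
    rw [← Finset.add_sum_erase _ _ hx,
      ← Finset.add_sum_erase (S.erase x) _ (Finset.mem_erase.mpr ⟨Ne.symm hxy, hy⟩)]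
  have hS'sum : ∑ z ∈ S', len A C z < ∑ z ∈ S, len A B z := by
    have hu : ∑ z ∈ S', len A C z ≤ ∑ z ∈ R.image (algebraMap B C), len A C z +
        ∑ z ∈ ({t, a', b'} : Finset C), len A C z := by
      rw [← Finset.sum_union_inter]; exact Nat.le_add_right _ _
    have h1 : ∑ z ∈ R.image (algebraMap B C), len A C z = ∑ z ∈ R, len A B z := by
      rw [Finset.sum_image hBC.injOn]
      exact Finset.sum_congr rfl fun z hz =>
        hlen z (hS z (Finset.mem_of_mem_erase (Finset.mem_of_mem_erase hz)))
    have hins : ∀ (u : C) (F : Finset C), ∑ z ∈ insert u F, len A C z ≤ len A C u + ∑ z ∈ F, len A C z := by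
      intro u F
      by_cases hu' : u ∈ F
      · rw [Finset.insert_eq_of_mem hu']; exact Nat.le_add_left _ _
      · rw [Finset.sum_insert hu']
    have h2 : ∑ z ∈ ({t, a', b'} : Finset C), len A C z ≤ len A C t + (len A C a' + len A C b') := by
      refine (hins _ _).trans (Nat.add_le_add_left ((hins _ _).trans ?_) _)
      rw [Finset.sum_singleton]
    have h3 := hlen x (hS x hx)
    rw [hta, len_mul A hA hinjC ht ha'] at h3
    have h4 := hlen y (hS y hy)
    rw [htb, len_mul A hA hinjC ht hb'] at h4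
    omega
  obtain ⟨D, _, _, ψ, hψ, hψnzd, hD, T, hT, hrep, hsep⟩ := ih (∑ z ∈ S', len A C z)
    (lt_of_lt_of_le hS'sum hsum) C (finExt_trans A hA ⟨hinj, hfin, n, hn⟩ hBC hw hwC) S' (by
      intro z hz
      simp only [S', Finset.mem_union, Finset.mem_image, Finset.mem_insert, Finset.mem_singleton] at hz
      rcases hz with ⟨z0, hz0, rfl⟩ | rfl | rfl | rfl
      · exact hnzd _ (hS z0 (Finset.mem_of_mem_erase (Finset.mem_of_mem_erase hz0)))
      all_goals assumption) le_rfl
  refine ⟨D, inferInstance, inferInstance, ψ.comp (IsScalarTower.toAlgHom A B C), hψ.comp hBC,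
    fun z hz => hψnzd _ (hnzd z hz), hD, T, hT, fun z hz => ?_, hsep⟩
  change ψ (algebraMap B C z) ∈ _
  by_cases h1 : z = x
  · rw [h1, hta, map_mul]
    exact mul_mem (hrep _ (by simp [S'])) (hrep _ (by simp [S']))
  by_cases h2 : z = y
  · rw [h2, htb, map_mul]
    exact mul_mem (hrep _ (by simp [S'])) (hrep _ (by simp [S']))
  · exact hrep _ (Finset.mem_union_left _ (Finset.mem_image_of_mem _
      (Finset.mem_erase.mpr ⟨h2, Finset.mem_erase.mpr ⟨h1, hz⟩⟩)))

end Groth.L15.Tame
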