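import Groth.Agent.L15.Tame.Local
import Groth.Agent.L15.Tame.Refine
import Mathlib.RingTheory.Localization.LocalizationLocalization
import Mathlib.RingTheory.Localization.FractionRing
import Mathlib.RingTheory.Ideal.KrullsHeightTheorem
import Mathlib.Data.ENat.BigOperators
import Mathlib.RingTheory.LocalRing.Quotient

/-!
Well-definedness of tame symbols of one-dimensional Noetherian local rings.
-/

set_option autoImplicit false
universe u

noncomputable section

namespace Groth.L15.Tame

open IsLocalRing Groth.L15.CommonFactor CycAlg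

variable {A : Type u} [CommRing A] [IsLocalRing A]

local notation "Loc" q => Localization.AtPrime (MaximalSpectrum.asIdeal q)

section Ext

variable {B : Type u} [CommRing B] [Algebra A B]

theorem finite_spectrum [Module.Finite A B] [IsNoetherianRing A] : Finite (MaximalSpectrum B) := by
  have : IsNoetherianRing B := IsNoetherianRing.of_finite A B
  have := (finite_isMaximal A (B := B)).to_subtype
  exact Finite.of_injective (β := {P : Ideal B | P.IsMaximal})
    (fun q => ⟨q.asIdeal, q.isMaximal⟩)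
    (fun p q h => MaximalSpectrum.ext (congrArg Subtype.val h))

variable (A) in
/-- residual degree -/
def deg (q : MaximalSpectrum B) : ℕ := (Module.length A (B ⧸ q.asIdeal)).toNat

theorem deg_eq [Module.Finite A B] (q : MaximalSpectrum B) [IsLocalHom (algebraMap A (Loc q))] :
    deg A q = Module.finrank (ResidueField A) (ResidueField (Loc q)) := by
  rw [deg, length_quot_maximal q]; rfl

theorem finite_res [Module.Finite A B] (q : MaximalSpectrum B) [IsLocalHom (algebraMap A (Loc q))] :
    Module.Finite (ResidueField A) (ResidueField (Loc q)) :=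
  Module.Finite.of_restrictScalars_finite A _ _

theorem deg_pos [Module.Finite A B] (q : MaximalSpectrum B) : 0 < deg A q := by
  haveI := isLocalHom_loc (A := A) q
  haveI := finite_res (A := A) q
  rw [deg_eq q]
  exact Module.finrank_pos

omit [Algebra A B] in
theorem krullDimLE_loc (hB : ringKrullDim B ≤ 1) (q : MaximalSpectrum B) :
    Ring.KrullDimLE 1 (Loc q) := by
  rw [Ring.krullDimLE_iff, IsLocalization.AtPrime.ringKrullDim_eq_height q.asIdeal (Loc q)]
  have := q.isMaximal.isPrime
  exact (Ideal.height_le_ringKrullDim_of_ne_top q.isMaximal.ne_top).trans (by exact_mod_cast hB)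

omit [Algebra A B] in
theorem ordL_ne_top [IsNoetherianRing B] (hB : ringKrullDim B ≤ 1) (q : MaximalSpectrum B)
    {z : Loc q} (hz : z ∈ nonZeroDivisors (Loc q)) : Ring.ord (Loc q) z ≠ ⊤ := by
  haveI := krullDimLE_loc hB q
  exact Ring.ord_ne_top hz

omit [Algebra A B] in
theorem map_nzd (q : MaximalSpectrum B) {z : B} (hz : z ∈ nonZeroDivisors B) :
    algebraMap B (Loc q) z ∈ nonZeroDivisors (Loc q) :=
  IsLocalization.map_nonZeroDivisors_le q.asIdeal.primeCompl (Loc q) ⟨z, hz, rfl⟩

omit [Algebra A B] in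
theorem mem_nzd_of_local {z : B}
    (h : ∀ q : MaximalSpectrum B, algebraMap B (Loc q) z ∈ nonZeroDivisors (Loc q)) :
    z ∈ nonZeroDivisors B := by
  rw [mem_nonZeroDivisors_iff_right]
  intro x hx
  by_contra hne
  let I : Ideal B := LinearMap.ker (LinearMap.toSpanSingleton B B x)
  have hI : I ≠ ⊤ := fun hI => hne (by
    have : (1 : B) ∈ I := hI ▸ Submodule.mem_top
    simpa [I] using this)
  obtain ⟨q, hq, hIq⟩ := Ideal.exists_le_maximal I hI
  have h1 := h ⟨q, hq⟩
  have h2 : algebraMap B (Localization.AtPrime q) x = 0 :=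
    mem_nonZeroDivisors_iff_right.mp h1 _ (by rw [← map_mul, hx, map_zero])
  obtain ⟨t, ht⟩ := (IsLocalization.map_eq_zero_iff q.primeCompl _ x).mp h2
  exact t.2 (hIq (by simpa [I] using ht))

variable [IsNoetherianRing A]

theorem len_eq_sum (hA : ringKrullDim A = 1) [Module.Finite A B]
    (hinj : Function.Injective (algebraMap A B)) {x : B} (hx : x ∈ nonZeroDivisors B) :
    len A B x = ∑ᶠ q : MaximalSpectrum B, deg A q * (Ring.ord (Loc q) (algebraMap B (Loc q) x)).toNat := by
  have : IsNoetherianRing B := IsNoetherianRing.of_finite A B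
  have := finite_spectrum (A := A) (B := B)
  have := Fintype.ofFinite (MaximalSpectrum B)
  have hdim := dim_le_one A hA hinj
  rw [len, length_quot_eq_finsum A hdim hx, finsum_eq_sum_of_fintype, finsum_eq_sum_of_fintype,
    ENat.toNat_sum]
  · exact Finset.sum_congr rfl fun q _ => ENat.toNat_mul _ _
  · intro q _
    haveI := isLocalHom_loc (A := A) q
    rw [length_quot_maximal q]
    exact WithTop.mul_ne_top (ENat.natCast_ne_top _) (ordL_ne_top hdim q (map_nzd q hx))

end Ext

section Data

variable [IsNoetherianRing A] {a₁ a₂ : A}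

theorem isUnit_loc_of_notMem {B : Type u} [CommRing B] (q : MaximalSpectrum B) {z : B} (h : z ∉ q.asIdeal) :
    IsUnit (algebraMap B (Loc q) z) :=
  IsLocalization.map_units (Loc q) (⟨z, h⟩ : q.asIdeal.primeCompl)

theorem data_nzd₁ (D : TameData A a₁ a₂) : algebraMap A D.B a₁ ∈ nonZeroDivisors D.B :=
  mem_nzd_of_local fun q => by
    rw [← IsScalarTower.algebraMap_apply A D.B (Loc q), D.fac₁ q]
    exact mul_mem (D.u₁ q).isUnit.mem_nonZeroDivisors (pow_mem (D.π_mem q) _)

theorem data_nzd₂ (D : TameData A a₁ a₂) : algebraMap A D.B a₂ ∈ nonZeroDivisors D.B :=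
  mem_nzd_of_local fun q => by
    rw [← IsScalarTower.algebraMap_apply A D.B (Loc q), D.fac₂ q]
    exact mul_mem (D.u₂ q).isUnit.mem_nonZeroDivisors (pow_mem (D.π_mem q) _)

theorem localFactor_eq (D : TameData A a₁ a₂) (q : MaximalSpectrum D.B) :
    D.localFactor q =
      @lf A _ _ (Loc q) _ _ _ (D.isLocalHom q) (D.π q) (D.u₁ q) (D.u₂ q) (D.e₁ q) (D.e₂ q) := rfl

/-- the value is `1` when both elements are units -/
theorem value_of_isUnit (D : TameData A a₁ a₂) (h₁ : IsUnit a₁) (h₂ : IsUnit a₂) : D.value = 1 := by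
  refine finprod_eq_one_of_forall_eq_one fun q => ?_
  haveI := D.isLocalHom q
  rw [localFactor_eq]
  by_cases hu : IsUnit (D.π q)
  · exact lf_of_isUnit hu _ _ _ _
  have key : ∀ (a : A) (u : (Loc q)ˣ) (e : ℕ), IsUnit a →
      algebraMap A (Loc q) a = (u : Loc q) * D.π q ^ e → e = 0 := by
    intro a u e ha he
    by_contra hne
    have h := ha.map (algebraMap A (Loc q))
    rw [he, IsUnit.mul_iff, isUnit_pow_iff hne] at h
    exact hu h.2
  rw [lf, key _ _ _ h₁ (D.fac₁ q), key _ _ _ h₂ (D.fac₂ q), sx_zero]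
  simp

/-- a global representative of a local parameter -/
theorem exists_global {B : Type u} [CommRing B] [IsNoetherianRing B]
    (hB : ringKrullDim B ≤ 1) [Finite (MaximalSpectrum B)] (q : MaximalSpectrum B) {π : Loc q}
    (hπ : π ∈ nonZeroDivisors (Loc q)) :
    ∃ x ∈ nonZeroDivisors B, (∀ q' : MaximalSpectrum B, q' ≠ q → x ∉ q'.asIdeal) ∧
      ∃ u : (Loc q)ˣ, algebraMap B (Loc q) x = (u : Loc q) * π := by
  classical
  by_cases hu : IsUnit π
  · exact ⟨1, one_mem _, fun q' _ h => q'.isMaximal.ne_top ((Ideal.eq_top_iff_one _).mpr h),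
      hu.unit⁻¹, by simp⟩
  have := Fintype.ofFinite (MaximalSpectrum B)
  have hprime : ∀ q : MaximalSpectrum B, q.asIdeal.IsPrime := fun q => q.isMaximal.isPrime
  obtain ⟨y, s, hys⟩ := IsLocalization.exists_mk'_eq q.asIdeal.primeCompl π
  have hyπ : algebraMap B (Loc q) y = π * algebraMap B (Loc q) s := by
    rw [← hys, IsLocalization.mk'_spec]
  haveI := krullDimLE_loc hB q
  have hart : IsArtinianRing ((Loc q) ⧸ Ideal.span {π}) :=
    artinian_quot (Ring.krullDimLE_iff.mp (krullDimLE_loc hB q)) hπ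
  have htop : Ideal.span {π} ≠ (⊤ : Ideal (Loc q)) := by
    rw [Ne, Ideal.span_singleton_eq_top]; exact hu
  have := (Ideal.Quotient.nontrivial_iff (I := Ideal.span {π})).mpr htop
  obtain ⟨M, hM⟩ := IsLocalRing.exists_maximalIdeal_pow_le_of_isArtinianRing_quotient (Ideal.span {π})
  have hne : ∀ q' : MaximalSpectrum B, q' ≠ q → ¬ q'.asIdeal ≤ q.asIdeal := fun q' h hle =>
    h (MaximalSpectrum.ext (q'.isMaximal.eq_of_le q.isMaximal.ne_top hle))
  have hne' : ∀ q' : MaximalSpectrum B, q' ≠ q → ¬ q.asIdeal ^ (M + 1) ≤ q'.asIdeal := fun q' h hle =>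
    h.symm (MaximalSpectrum.ext (q.isMaximal.eq_of_le q'.isMaximal.ne_top ((hprime q').le_of_pow_le hle)))
  obtain ⟨e, he, heq⟩ : ∃ e, (∀ q' : MaximalSpectrum B, q' ≠ q → e ∈ q'.asIdeal) ∧ e ∉ q.asIdeal := by
    choose g hg hg' using fun (q' : MaximalSpectrum B) (h : q' ≠ q) => SetLike.not_le_iff_exists.mp (hne q' h)
    refine ⟨∏ q' ∈ (Finset.univ.erase q).attach, g q'.1 (Finset.ne_of_mem_erase q'.2), fun q' h => ?_, fun hmem => ?_⟩
    · exact q'.asIdeal.mem_of_dvd (Finset.dvd_prod_of_mem _ (Finset.mem_attach _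
        ⟨q', Finset.mem_erase.mpr ⟨h, Finset.mem_univ _⟩⟩)) (hg q' h)
    · obtain ⟨q', -, h'⟩ := ((hprime q).prod_mem_iff).mp hmem
      exact hg' _ _ h'
  obtain ⟨e', he', he'n⟩ : ∃ e' ∈ q.asIdeal ^ (M + 1), ∀ q' : MaximalSpectrum B, q' ≠ q → e' ∉ q'.asIdeal := by
    by_contra hcon
    push_neg at hcon
    have hsub : ((q.asIdeal ^ (M + 1) : Ideal B) : Set B) ⊆
        ⋃ q' ∈ (↑(Finset.univ.erase q) : Set (MaximalSpectrum B)), (q'.asIdeal : Set B) := by
      intro z hz
      obtain ⟨q', h1, h2⟩ := hcon z hz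
      exact Set.mem_biUnion (by simpa using h1) h2
    obtain ⟨q', hq', hle⟩ :=
      (Ideal.subset_union_prime q q (fun i _ _ _ => hprime i)).mp hsub
    exact hne' q' (Finset.ne_of_mem_erase hq') hle
  have he'L : algebraMap B (Loc q) e' ∈ Ideal.span {π} * maximalIdeal (Loc q) := by
    have h1 : algebraMap B (Loc q) e' ∈ (q.asIdeal ^ (M + 1)).map (algebraMap B (Loc q)) :=
      Ideal.mem_map_of_mem _ he'
    rw [Ideal.map_pow, Localization.AtPrime.map_eq_maximalIdeal, pow_succ] at h1
    exact Ideal.mul_mono_left hM h1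
  obtain ⟨z, hz, hz'⟩ := Ideal.mem_span_singleton_mul.mp he'L
  have hx : ∀ q' : MaximalSpectrum B, q' ≠ q → e * y + e' ∉ q'.asIdeal := fun q' h hmem =>
    he'n q' h ((q'.asIdeal.add_mem_iff_right (q'.asIdeal.mul_mem_right _ (he q' h))).mp hmem)
  have huq : IsUnit (algebraMap B (Loc q) e * algebraMap B (Loc q) s + z) := by
    by_contra hnu
    have h1 : algebraMap B (Loc q) e * algebraMap B (Loc q) s ∈ maximalIdeal (Loc q) := by
      have := (maximalIdeal (Loc q)).sub_mem (show _ ∈ maximalIdeal (Loc q) from hnu) hz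
      simpa using this
    exact h1 ((isUnit_loc_of_notMem q heq).mul (isUnit_loc_of_notMem q s.2))
  refine ⟨e * y + e', ?_, hx, huq.unit, ?_⟩
  · refine mem_nzd_of_local fun q' => ?_
    by_cases h : q' = q
    · subst h
      rw [map_add, map_mul, hyπ, ← hz', show algebraMap B (Loc q') e * (π * algebraMap B (Loc q') s) + π * z =
        π * (algebraMap B (Loc q') e * algebraMap B (Loc q') s + z) by ring]
      exact mul_mem hπ huq.mem_nonZeroDivisors
    · exact (isUnit_loc_of_notMem q' (hx q' h)).mem_nonZeroDivisors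
  · rw [map_add, map_mul, hyπ, ← hz', IsUnit.unit_spec]; ring

/-- comparison along a finer extension -/
theorem value_eq_of_refine (hA : ringKrullDim A = 1) (D E : TameData A a₁ a₂) (φ : D.B →ₐ[A] E.B)
    (hφ : Function.Injective φ) (hnzd : ∀ z ∈ nonZeroDivisors D.B, φ z ∈ nonZeroDivisors E.B)
    {w : D.B} (hw : w ∈ nonZeroDivisors D.B) (hwE : ∀ c : E.B, φ w * c ∈ φ.range)
    (x : MaximalSpectrum D.B → D.B) (hx : ∀ q, x q ∈ nonZeroDivisors D.B)
    (hxne : ∀ q q' : MaximalSpectrum D.B, q' ≠ q → x q ∉ q'.asIdeal)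
    (hxu : ∀ q, ∃ u : (Loc q)ˣ, algebraMap D.B (Loc q) (x q) = (u : Loc q) * D.π q)
    (hfine : ∀ (q : MaximalSpectrum D.B) (Q : MaximalSpectrum E.B),
      ∃ (v : (Loc Q)ˣ) (h : ℕ), algebraMap E.B (Loc Q) (φ (x q)) = (v : Loc Q) * E.π Q ^ h) :
    D.value = E.value := by
  classical
  obtain ⟨hinjD, hfinD, -⟩ := D.isFinExt
  obtain ⟨hinjE, hfinE, -⟩ := E.isFinExt
  letI : Algebra D.B E.B := φ.toRingHom.toAlgebra
  have : IsScalarTower A D.B E.B := IsScalarTower.of_algebraMap_eq fun a => (φ.commutes a).symm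
  have : Module.Finite D.B E.B := Module.Finite.of_restrictScalars_finite A _ _
  have : IsNoetherianRing D.B := IsNoetherianRing.of_finite A D.B
  have : IsNoetherianRing E.B := IsNoetherianRing.of_finite A E.B
  have := finite_spectrum (A := A) (B := D.B)
  have := finite_spectrum (A := A) (B := E.B)
  have := Fintype.ofFinite (MaximalSpectrum D.B)
  have := Fintype.ofFinite (MaximalSpectrum E.B)
  have hdimE := dim_le_one A hA hinjE
  let res : MaximalSpectrum E.B → MaximalSpectrum D.B := fun Q =>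
    ⟨Q.asIdeal.comap φ.toRingHom, by
      have := Q.isMaximal
      exact Ideal.isMaximal_comap_of_isIntegral_of_isMaximal (R := D.B) Q.asIdeal⟩
  have hdata : ∀ q Q, res Q = q → ∃ h : ℕ,
      E.localFactor Q =
        (haveI := D.isLocalHom q
         Algebra.norm (ResidueField A) (sx (D.u₁ q) (D.u₂ q) (D.e₁ q) (D.e₂ q))) ^ h ∧
      deg A q * h = deg A Q * (Ring.ord (Loc Q) (algebraMap E.B (Loc Q) (φ (x q)))).toNat := by
    rintro q Q rfl
    haveI := D.isLocalHom (res Q)
    haveI := E.isLocalHom Q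
    letI : Algebra (Loc (res Q)) (Loc Q) :=
      (Localization.localRingHom (res Q).asIdeal Q.asIdeal φ.toRingHom rfl).toAlgebra
    haveI : IsLocalHom (algebraMap (Loc (res Q)) (Loc Q)) := by
      rw [RingHom.algebraMap_toAlgebra]; infer_instance
    haveI : IsScalarTower A (Loc (res Q)) (Loc Q) := IsScalarTower.of_algebraMap_eq fun a => by
      rw [RingHom.algebraMap_toAlgebra, IsScalarTower.algebraMap_apply A D.B (Loc (res Q)),
        Localization.localRingHom_to_map, IsScalarTower.algebraMap_apply A E.B (Loc Q)]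
      exact congrArg _ (φ.commutes a).symm
    haveI := finite_res (A := A) (res Q)
    haveI := finite_res (A := A) Q
    have hmap : ∀ z : D.B, algebraMap (Loc (res Q)) (Loc Q) (algebraMap D.B (Loc (res Q)) z) =
        algebraMap E.B (Loc Q) (φ z) := fun z => by
      rw [RingHom.algebraMap_toAlgebra, Localization.localRingHom_to_map]; rfl
    obtain ⟨v, h, hv⟩ := hfine (res Q) Q
    obtain ⟨u, hu⟩ := hxu (res Q)
    have hπ : algebraMap (Loc (res Q)) (Loc Q) (D.π (res Q)) =
        (((Units.map (algebraMap (Loc (res Q)) (Loc Q)).toMonoidHom u)⁻¹ * v : (Loc Q)ˣ) : Loc Q) * E.π Q ^ h := by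
      have h1 := hmap (x (res Q))
      rw [hv, hu, map_mul] at h1
      rw [Units.val_mul, mul_assoc, ← h1, ← mul_assoc]
      change _ = _ * algebraMap (Loc (res Q)) (Loc Q) (u : Loc (res Q)) * _
      rw [show algebraMap (Loc (res Q)) (Loc Q) (u : Loc (res Q)) =
        ((Units.map (algebraMap (Loc (res Q)) (Loc Q)).toMonoidHom u : (Loc Q)ˣ) : Loc Q) from rfl,
        Units.inv_mul, one_mul]
    refine ⟨Module.finrank (ResidueField (Loc (res Q))) (ResidueField (Loc Q)) *
      (h * (Ring.ord (Loc Q) (E.π Q)).toNat), ?_, ?_⟩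
    · rw [localFactor_eq]
      refine lf_refine (E.π_mem Q) hπ _ _ _ _ _ _ _ _ ?_ ?_
      · rw [← D.fac₁, ← E.fac₁]; exact (IsScalarTower.algebraMap_apply A _ _ a₁).symm
      · rw [← D.fac₂, ← E.fac₂]; exact (IsScalarTower.algebraMap_apply A _ _ a₂).symm
    · have : IsScalarTower (ResidueField A) (ResidueField (Loc (res Q))) (ResidueField (Loc Q)) :=
        IsScalarTower.of_algebraMap_eq fun a => by
          obtain ⟨a, rfl⟩ := residue_surjective a
          change residue _ (algebraMap A (Loc Q) a) = residue _ (algebraMap (Loc (res Q)) (Loc Q) (algebraMap A _ a))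
          rw [← IsScalarTower.algebraMap_apply A (Loc (res Q)) (Loc Q)]
      rw [deg_eq, deg_eq, ← Module.finrank_mul_finrank (ResidueField A) (ResidueField (Loc (res Q))) (ResidueField (Loc Q)),
        hv, mul_assoc]
      congr 2
      rw [Ring.ord_mul_of_isUnit_left (Units.isUnit _), Ring.ord_pow (E.π_mem Q), nsmul_eq_mul, ENat.toNat_mul]
      simp
  choose h hh1 hh2 using hdata
  have hsum : ∀ q, ∑ Q ∈ (Finset.univ.filter fun Q => res Q = q).attach, h q Q.1 (Finset.mem_filter.mp Q.2).2 =
      (Ring.ord (Loc q) (D.π q)).toNat := by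
    intro q
    refine Nat.eq_of_mul_eq_mul_left (deg_pos (A := A) q) ?_
    rw [Finset.mul_sum]
    calc _ = ∑ Q ∈ Finset.univ.filter (fun Q => res Q = q),
          deg A Q * (Ring.ord (Loc Q) (algebraMap E.B (Loc Q) (φ (x q)))).toNat := by
          refine Eq.trans (Finset.sum_congr rfl fun Q _ => hh2 q Q.1 (Finset.mem_filter.mp Q.2).2) ?_
          exact Finset.sum_attach _ (fun Q : MaximalSpectrum E.B =>
            deg A Q * (Ring.ord (Loc Q) (algebraMap E.B (Loc Q) (φ (x q)))).toNat)
      _ = ∑ Q, deg A Q * (Ring.ord (Loc Q) (algebraMap E.B (Loc Q) (φ (x q)))).toNat := by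
          refine Finset.sum_subset (Finset.subset_univ _) fun Q _ hQ => ?_
          have hne : res Q ≠ q := fun he => hQ (Finset.mem_filter.mpr ⟨Finset.mem_univ _, he⟩)
          rw [ord_unit (isUnit_loc_of_notMem Q (z := φ (x q)) fun hm => hxne q (res Q) hne hm)]
          simp
      _ = len A E.B (φ (x q)) := by
          rw [len_eq_sum hA hinjE (hnzd _ (hx q)), finsum_eq_sum_of_fintype]
      _ = len A D.B (x q) := len_map A hA hinjE hφ hnzd hw hwE (hx q)
      _ = deg A q * (Ring.ord (Loc q) (D.π q)).toNat := by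
          rw [len_eq_sum hA hinjD (hx q), finsum_eq_sum_of_fintype,
            Finset.sum_eq_single q (fun q' _ hne => by
              rw [ord_unit (isUnit_loc_of_notMem q' (hxne q q' hne))]; simp) (by simp)]
          obtain ⟨u, hu⟩ := hxu q
          rw [hu, Ring.ord_mul_of_isUnit_left u.isUnit]
  rw [TameData.value, TameData.value, finprod_eq_prod_of_fintype, finprod_eq_prod_of_fintype,
    ← Finset.prod_fiberwise Finset.univ res]
  refine Finset.prod_congr rfl fun q _ => ?_
  rw [← Finset.prod_attach]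
  rw [Finset.prod_congr rfl (fun (Q : {Q // Q ∈ Finset.univ.filter fun Q => res Q = q}) _ =>
    hh1 q Q.1 (Finset.mem_filter.mp Q.2).2), Finset.prod_pow_eq_pow_sum, hsum]
  rfl

end Data

end Groth.L15.Tame
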